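import Groth.Agent.EtaleSite.Flasque
import Groth.Agent.EtaleSite.Points
import Groth.Agent.EtConsAb.Supp
import Groth.Agent.Wt.Master
import Mathlib.AlgebraicGeometry.Morphisms.QuasiFinite
import Mathlib.AlgebraicGeometry.Morphisms.FormallyUnramified
import Mathlib.Topology.NoetherianSpace
import Mathlib.Topology.Sober
import Mathlib.FieldTheory.IsSepClosed

/-!
# Closed points of étale schemes, germs and their vanishing
-/

set_option autoImplicit false

universe u

open CategoryTheory CategoryTheory.Limits AlgebraicGeometry Opposite TopologicalSpace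

noncomputable section

namespace Groth.Agent.PunctLib

open EtaleSite

variable {X : Scheme.{u}} {Ω : Type u} [Field Ω] [IsSepClosed Ω] {ξ : Spec (CommRingCat.of Ω) ⟶ X}

/-- The point of an étale scheme under a geometric point. -/
def pt {U : X.Etale} (t : (Scheme.pointSmallEtale ξ).fiber.obj U) : U.left :=
  (show Over.mk ξ ⟶ (Scheme.Etale.forget X).obj U from t).left (default : Spec (CommRingCat.of Ω))

theorem hom_pt {U : X.Etale} (t : (Scheme.pointSmallEtale ξ).fiber.obj U) :
    U.hom (pt t) = ξ default :=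
  (Scheme.Hom.comp_apply _ _ _).symm.trans
    (congrArg (fun k : Spec (CommRingCat.of Ω) ⟶ X => k default)
      (Over.w (show Over.mk ξ ⟶ (Scheme.Etale.forget X).obj U from t)))

theorem pt_map {U V : X.Etale} (g : V ⟶ U) (t : (Scheme.pointSmallEtale ξ).fiber.obj V) :
    pt ((Scheme.pointSmallEtale ξ).fiber.map g t) = g.left (pt t) :=
  Scheme.Hom.comp_apply _ _ _

theorem etale_left {U V : X.Etale} (g : V ⟶ U) : Etale g.left := by
  have h : Etale (g.left ≫ U.hom) := by
    rw [MorphismProperty.Over.w g]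
    infer_instance
  exact Etale.of_comp g.left U.hom

/-- A geometric point lifts along a morphism of étale schemes whose image contains its point. -/
theorem exists_lift {U V : X.Etale} (g : V ⟶ U) (t : (Scheme.pointSmallEtale ξ).fiber.obj U)
    (v : V.left) (hv : g.left v = pt t) :
    ∃ y : (Scheme.pointSmallEtale ξ).fiber.obj V,
      (Scheme.pointSmallEtale ξ).fiber.map g y = t ∧ pt y = v := by
  have := etale_left g
  obtain ⟨l, hl, hl'⟩ := Scheme.exists_fac_of_etale_of_isSepClosed g.left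
    (show Over.mk ξ ⟶ (Scheme.Etale.forget X).obj U from t).left v hv
  have w : l ≫ V.hom = ξ := by
    rw [← MorphismProperty.Over.w g, ← Category.assoc, hl]
    exact Over.w (show Over.mk ξ ⟶ (Scheme.Etale.forget X).obj U from t)
  exact ⟨(Over.homMk l w : Over.mk ξ ⟶ (Scheme.Etale.forget X).obj V),
    Over.OverMorphism.ext hl, hl'⟩

theorem locallyQuasiFinite_of_etale {W Y : Scheme.{u}} (f : W ⟶ Y) [Etale f] :
    LocallyQuasiFinite f := Wt.Master.locallyQuasiFinite_of_etale f

theorem isClosed_of_subset_fibre' {W Y : Scheme.{u}} (f : W ⟶ Y) [Etale f] {x : Y}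
    (hx : IsClosed ({x} : Set Y)) {A : Set W} (hA : A ⊆ f ⁻¹' {x}) : IsClosed A := by
  have := locallyQuasiFinite_of_etale f
  have hd := f.isDiscrete_preimage_singleton x
  have hF : IsClosed (f ⁻¹' {x}) := hx.preimage f.continuous
  have h1 : IsClosed ({z : f ⁻¹' {x} | z.1 ∈ A}) := by
    have := hd.to_subtype
    exact isClosed_discrete _
  have h2 := hF.isClosedEmbedding_subtypeVal.isClosedMap _ h1
  convert h2 using 1
  exact Set.ext fun z => ⟨fun hz => ⟨⟨z, hA hz⟩, hz, rfl⟩, fun ⟨w, hw, e⟩ => e ▸ hw⟩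

/-- A set contained in a fibre over a closed point is closed. -/
theorem isClosed_of_subset_fibre (U : X.Etale) {x : X} (hx : IsClosed ({x} : Set X)) {A : Set U.left}
    (hA : A ⊆ U.hom ⁻¹' {x}) : IsClosed A :=
  isClosed_of_subset_fibre' (W := U.left) (Y := X) U.hom hx hA

/-- A point of an étale scheme over a closed point is closed. -/
theorem isClosed_of_isClosed_image (U : X.Etale) {u : U.left}
    (h : IsClosed ({U.hom u} : Set X)) : IsClosed ({u} : Set U.left) :=
  isClosed_of_subset_fibre U h (Set.singleton_subset_iff.2 rfl)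

/-- The image of a non-closed point of an étale scheme is not closed. -/
theorem not_isClosed_image (U : X.Etale) {u : U.left} (h : ¬ IsClosed ({u} : Set U.left)) :
    ¬ IsClosed ({U.hom u} : Set X) :=
  fun hc => h (isClosed_of_isClosed_image U hc)

theorem points_ext {W Y : Scheme.{u}} (f : W ⟶ Y) [Etale f] {ξ : Spec (CommRingCat.of Ω) ⟶ Y}
    [IsSepClosed (Y.residueField (ξ default))] (l l' : Spec (CommRingCat.of Ω) ⟶ W)
    (hl : l ≫ f = ξ) (hl' : l' ≫ f = ξ) (h : l default = l' default) : l = l' := by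
  obtain ⟨⟨u, a⟩, hu⟩ := (Scheme.SpecToEquivOfField Ω W).symm.surjective l
  obtain ⟨⟨u', a'⟩, hu'⟩ := (Scheme.SpecToEquivOfField Ω W).symm.surjective l'
  have hu1 : Spec.map a ≫ W.fromSpecResidueField u = l := hu
  have hu2 : Spec.map a' ≫ W.fromSpecResidueField u' = l' := hu'
  have e1 : l default = u := by
    rw [← hu1, Scheme.Hom.comp_apply]
    exact Scheme.fromSpecResidueField_apply _ _
  have e2 : l' default = u' := by
    rw [← hu2, Scheme.Hom.comp_apply]
    exact Scheme.fromSpecResidueField_apply _ _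
  have hx : f.base u = ξ default := by rw [← e1, ← hl]; rfl
  obtain rfl : u = u' := e1.symm.trans (h.trans e2)
  have hsc : IsSepClosed (Y.residueField (f.base u)) := by
    rw [hx]; infer_instance
  have hsurj : Function.Surjective (f.residueFieldMap u).hom := by
    letI := (f.residueFieldMap u).hom.toAlgebra
    have : Algebra.IsSeparable (Y.residueField (f.base u)) (W.residueField u) := inferInstance
    exact (IsSepClosed.algebraMap_bijective (Y.residueField (f.base u)) (W.residueField u)).2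
  have : Epi (f.residueFieldMap u) := ConcreteCategory.epi_of_surjective _ hsurj
  have hξ : Spec.map (f.residueFieldMap u ≫ a) ≫ Y.fromSpecResidueField (f u) =
      Spec.map (f.residueFieldMap u ≫ a') ≫ Y.fromSpecResidueField (f u) := by
    rw [Spec.map_comp, Spec.map_comp, Category.assoc, Category.assoc,
      Scheme.Hom.SpecMap_residueFieldMap_fromSpecResidueField, ← Category.assoc, ← Category.assoc,
      hu1, hu2, hl, hl']
  have h3 := (Scheme.SpecToEquivOfField Ω Y).symm.injective
    (a₁ := ⟨f u, f.residueFieldMap u ≫ a⟩) (a₂ := ⟨f u, f.residueFieldMap u ≫ a'⟩) hξ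
  have h4 : a = a' := (cancel_epi (f.residueFieldMap u)).1 (eq_of_heq (Sigma.mk.inj_iff.1 h3).2)
  rw [← hu1, ← hu2, h4]

/-- Over a point with separably closed residue field, a geometric point of an étale scheme is
determined by its point. -/
theorem fiber_ext [IsSepClosed (X.residueField (ξ default))] {U : X.Etale}
    (t t' : (Scheme.pointSmallEtale ξ).fiber.obj U) (h : pt t = pt t') : t = t' :=
  Over.OverMorphism.ext (points_ext (Ω := Ω) (ξ := ξ) (W := U.left) (Y := X) U.hom _ _
    (Over.w (show Over.mk ξ ⟶ (Scheme.Etale.forget X).obj U from t))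
    (Over.w (show Over.mk ξ ⟶ (Scheme.Etale.forget X).obj U from t')) h)

/-- Closed sets consisting of closed points in a Noetherian sober space are finite, in the form:
a set which near every non-closed point avoids its closure is finite. -/
theorem finite_of_avoid {T : Type*} [TopologicalSpace T] [NoetherianSpace T] [QuasiSober T] (B : Set T)
    (h : ∀ t : T, ¬ IsClosed ({t} : Set T) →
      ∃ W : Set T, IsOpen W ∧ t ∈ W ∧ W ∩ closure {t} ∩ B = ∅) : B.Finite := by
  obtain ⟨S, hSf, hSc, hSi, hS⟩ :=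
    NoetherianSpace.exists_finite_set_isClosed_irreducible (isClosed_closure (s := B))
  by_cases hall : ∀ Z ∈ S, Z.Subsingleton
  · refine (Set.Finite.sUnion hSf fun Z hZ => (hall Z hZ).finite).subset ?_
    rw [← hS]
    exact subset_closure
  exfalso
  obtain ⟨Z, ⟨hZS, hZne⟩, hmax⟩ := (hSf.subset (Set.sep_subset S fun Z => ¬ Z.Subsingleton)).exists_maximal
    (by push Not at hall; obtain ⟨Z, hZS, hZ⟩ := hall; exact ⟨Z, hZS, Set.not_subsingleton_iff.2 hZ⟩)
  obtain ⟨t, ht⟩ := QuasiSober.sober (hSi Z hZS) (hSc Z hZS)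
  have htZ : closure {t} = Z := ht
  have htnc : ¬ IsClosed ({t} : Set T) := fun hc => hZne (by
    rw [← htZ, hc.closure_eq]
    exact Set.subsingleton_singleton)
  obtain ⟨W, hWo, htW, hW⟩ := h t htnc
  let O : Set T := ⋃₀ (S \ {Z})
  have hO : IsClosed O := by
    rw [show O = ⋃ i ∈ S \ {Z}, i from Set.sUnion_eq_biUnion]
    exact hSf.sdiff.isClosed_biUnion fun Z' hZ' => hSc Z' hZ'.1
  have htO : t ∉ O := by
    rintro ⟨Z', ⟨hZ'S, hne⟩, htZ'⟩
    have hle : Z ⊆ Z' := htZ ▸ closure_minimal (Set.singleton_subset_iff.2 htZ') (hSc Z' hZ'S)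
    exact hne (Set.Subset.antisymm (hmax ⟨hZ'S, fun hs => hZne (hs.anti hle)⟩ hle) hle)
  have htB : t ∈ closure B := by
    rw [hS]
    exact ⟨Z, hZS, htZ ▸ subset_closure rfl⟩
  obtain ⟨b, ⟨hbW, hbO⟩, hbB⟩ := mem_closure_iff.1 htB (W ∩ Oᶜ) (hWo.inter hO.isOpen_compl) ⟨htW, htO⟩
  have hbZ : b ∈ Z := by
    have : b ∈ ⋃₀ S := hS ▸ subset_closure hbB
    obtain ⟨Z', hZ'S, hb⟩ := this
    by_contra hb'
    exact hbO ⟨Z', ⟨hZ'S, fun e => hb' (Set.mem_singleton_iff.1 e ▸ hb)⟩, hb⟩
  exact Set.eq_empty_iff_forall_notMem.1 hW b ⟨⟨hbW, htZ.symm ▸ hbZ⟩, hbB⟩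

/-- Restriction of an étale scheme to an open subset. -/
def openObj {U : X.Etale} (O : U.left.Opens) : X.Etale :=
  Scheme.Etale.mk (O.ι ≫ U.hom)

/-- The inclusion of an open subset. -/
def openIncl {U : X.Etale} (O : U.left.Opens) : openObj O ⟶ U :=
  MorphismProperty.Over.homMk O.ι rfl

theorem exists_lift_open {U : X.Etale} (O : U.left.Opens) (t : (Scheme.pointSmallEtale ξ).fiber.obj U)
    (ht : pt t ∈ O) :
    ∃ y : (Scheme.pointSmallEtale ξ).fiber.obj (openObj O),
      (Scheme.pointSmallEtale ξ).fiber.map (openIncl O) y = t :=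
  (exists_lift (openIncl O) t ⟨pt t, ht⟩ rfl).imp fun _ h => h.1

theorem pt_mem_open {U : X.Etale} {O : U.left.Opens}
    (y : (Scheme.pointSmallEtale ξ).fiber.obj (openObj O)) :
    pt ((Scheme.pointSmallEtale ξ).fiber.map (openIncl O) y) ∈ O := by
  rw [pt_map]
  exact (pt y).2

/-- A germ vanishes iff the section vanishes near the point. -/
theorem germ_eq_zero_iff (F : EtCoh.Ab X) {U : X.Etale}
    (t : (Scheme.pointSmallEtale ξ).fiber.obj U) (s : F.obj.obj (op U)) :
    germ ξ F U t s = 0 ↔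
      ∃ (V : X.Etale) (g : V ⟶ U) (v : V.left), g.left v = pt t ∧ F.obj.map g.op s = 0 := by
  constructor
  · intro h
    obtain ⟨V, g, y, hy, e⟩ := (germ_eq_iff ξ F U t s 0).1 (h.trans (map_zero _).symm)
    exact ⟨V, g, pt y, (pt_map g y).symm.trans (congrArg pt hy), e.trans (map_zero _)⟩
  · rintro ⟨V, g, v, hv, e⟩
    obtain ⟨y, hy, -⟩ := exists_lift g t v hv
    rw [← hy, ← germ_res ξ F g y s, e]
    exact map_zero _

/-- A germ vanishing at one point vanishes at every geometric point of an open neighbourhood. -/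
theorem exists_open_germ_eq_zero (F : EtCoh.Ab X) {U : X.Etale}
    (t : (Scheme.pointSmallEtale ξ).fiber.obj U) (s : F.obj.obj (op U)) (h : germ ξ F U t s = 0) :
    ∃ O : U.left.Opens, pt t ∈ O ∧ ∀ (Ω' : Type u) [Field Ω'] [IsSepClosed Ω']
      (ζ : Spec (CommRingCat.of Ω') ⟶ X) (y : (Scheme.pointSmallEtale ζ).fiber.obj U),
        pt y ∈ O → germ ζ F U y s = 0 := by
  obtain ⟨V, g, v, hv, e⟩ := (germ_eq_zero_iff F t s).1 h
  have := etale_left g
  refine ⟨⟨Set.range g.left, g.left.isOpenMap.isOpen_range⟩, ⟨v, hv⟩, fun Ω' _ _ ζ y hy => ?_⟩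
  obtain ⟨v', hv'⟩ := hy
  exact (germ_eq_zero_iff F y s).2 ⟨V, g, v', hv', e⟩

/-- A sheaf has zero stalks away from a set of points. -/
def ZeroOff (A : Set X) (F : EtCoh.Ab X) : Prop :=
  ∀ y : X, y ∉ A → IsZero ((EtCoh.stalk (geomPointAt X y)).obj F)

theorem ZeroOff.isZero_stalk {A : Set X} {F : EtCoh.Ab X} (hF : ZeroOff A F)
    (ξ : Spec (CommRingCat.of Ω) ⟶ X) (h : ξ default ∉ A) : IsZero ((EtCoh.stalk ξ).obj F) :=
  (EtConsAb.isZero_stalk_iff ξ rfl).2 (hF _ h)

theorem eq_zero_of_isZero {M : AddCommGrpCat.{u + 1}} (h : IsZero M) (m : M) : m = 0 := by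
  have := AddCommGrpCat.subsingleton_of_isZero h
  exact Subsingleton.elim _ _

/-- The closed points. -/
def C0 (X : Scheme.{u}) : Set X := {x | IsClosed ({x} : Set X)}

/-- The set of points where some germ of a section is nonzero. -/
def suppSec (F : EtCoh.Ab X) {U : X.Etale} (s : F.obj.obj (op U)) : Set U.left :=
  {u | ∃ (Ω : Type u) (_ : Field Ω) (_ : IsSepClosed Ω) (ξ : Spec (CommRingCat.of Ω) ⟶ X)
    (t : (Scheme.pointSmallEtale ξ).fiber.obj U), pt t = u ∧ germ ξ F U t s ≠ 0}

/-- A section of a sheaf with zero stalks outside the closed points has finite support. -/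
theorem finite_suppSec {F : EtCoh.Ab X} (hF : ZeroOff (C0 X) F) {U : X.Etale}
    [NoetherianSpace U.left] (s : F.obj.obj (op U)) : (suppSec F s).Finite := by
  refine finite_of_avoid _ fun u hu => ?_
  obtain ⟨t, ht⟩ := exists_fiber_point (geomPointAt X (U.hom u)) U u
    (geomPointAt_apply X (U.hom u) _).symm
  have h0 : germ (geomPointAt X (U.hom u)) F U t s = 0 :=
    eq_zero_of_isZero (hF _ (not_isClosed_image U hu)) _
  obtain ⟨O, hO, hO'⟩ := exists_open_germ_eq_zero F t s h0
  refine ⟨O, O.2, ?_, Set.eq_empty_iff_forall_notMem.2 ?_⟩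
  · exact ht ▸ hO
  · rintro b ⟨⟨hb, -⟩, Ω', _, _, ζ, y, rfl, hy⟩
    exact hy (hO' Ω' ζ y hb)

theorem noetherianSpace_left [IsLocallyNoetherian X] (U : X.Etale) [CompactSpace U.left] :
    NoetherianSpace U.left := by
  have : IsLocallyNoetherian U.left :=
    LocallyOfFiniteType.isLocallyNoetherian (X := U.left) (Y := X) U.hom
  have : IsNoetherian U.left := {}
  infer_instance

/-- Geometric points can be shrunk to have affine, hence compact, neighbourhoods. -/
theorem exists_germ_compact (F : EtCoh.Ab X) (p : ↑((EtCoh.stalk ξ).obj F)) :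
    ∃ (U : X.Etale) (_ : CompactSpace U.left) (t : (Scheme.pointSmallEtale ξ).fiber.obj U)
      (s : F.obj.obj (op U)), germ ξ F U t s = p := by
  obtain ⟨U, t, s, rfl⟩ := exists_germ_eq ξ F p
  obtain ⟨O, hO, htO, -⟩ :=
    exists_isAffineOpen_mem_and_subset (TopologicalSpace.Opens.mem_top (pt t))
  obtain ⟨y, hy⟩ := exists_lift_open O t htO
  refine ⟨openObj O, isCompact_iff_compactSpace.1 hO.isCompact, y, F.obj.map (openIncl O).op s, ?_⟩
  rw [germ_res, hy]

end Groth.Agent.PunctLib
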