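import Groth.Agent.PunctLib.Points

/-!
# Skyscrapers at geometric points and sections supported in a set of points
-/

set_option autoImplicit false

universe u

open CategoryTheory CategoryTheory.Limits AlgebraicGeometry Opposite TopologicalSpace

noncomputable section

namespace Groth.Agent.PunctLib

open EtaleSite EtaleSite.Flasque

variable {X : Scheme.{u}} {Ω : Type u} [Field Ω] [IsSepClosed Ω] (ξ : Spec (CommRingCat.of Ω) ⟶ X)

/-- The skyscraper sheaf at a geometric point. -/
abbrev sky (M : AddCommGrpCat.{u + 1}) : EtCoh.Ab X :=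
  (Scheme.pointSmallEtale ξ).skyscraperSheafFunctor.obj M

/-- The map to a skyscraper given by a map on the stalk. -/
def toSky {F : EtCoh.Ab X} {M : AddCommGrpCat.{u + 1}} (b : (EtCoh.stalk ξ).obj F ⟶ M) :
    F ⟶ sky ξ M :=
  (Scheme.pointSmallEtale ξ).skyscraperSheafAdjunction.homEquiv F M b

/-- The counit of the skyscraper adjunction. -/
def skyCounit (M : AddCommGrpCat.{u + 1}) : (EtCoh.stalk ξ).obj (sky ξ M) ⟶ M :=
  ((Scheme.pointSmallEtale ξ).skyscraperSheafAdjunction.homEquiv (sky ξ M) M).symm (𝟙 _)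

theorem map_toSky_counit {F : EtCoh.Ab X} {M : AddCommGrpCat.{u + 1}}
    (b : (EtCoh.stalk ξ).obj F ⟶ M) : (EtCoh.stalk ξ).map (toSky ξ b) ≫ skyCounit ξ M = b := by
  refine ((Scheme.pointSmallEtale ξ).skyscraperSheafAdjunction.homEquiv_naturality_left_symm
    (toSky ξ b) (𝟙 (sky ξ M))).symm.trans ?_
  rw [Category.comp_id]
  exact Equiv.symm_apply_apply _ _

theorem toSky_counit {F : EtCoh.Ab X} {M : AddCommGrpCat.{u + 1}} (a : F ⟶ sky ξ M) :
    toSky ξ ((EtCoh.stalk ξ).map a ≫ skyCounit ξ M) = a := by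
  rw [skyCounit, toSky]
  refine (congrArg _ (((Scheme.pointSmallEtale ξ).skyscraperSheafAdjunction.homEquiv_naturality_left_symm
    a (𝟙 (sky ξ M))).symm)).trans ?_
  rw [Category.comp_id]
  exact Equiv.apply_symm_apply _ _

/-- A component of a section of a skyscraper sheaf. -/
def comp {M : AddCommGrpCat.{u + 1}} {U : X.Etale} (t : (Scheme.pointSmallEtale ξ).fiber.obj U) :
    (sky ξ M).obj.obj (op U) ⟶ M :=
  Pi.π (fun _ : (Scheme.pointSmallEtale ξ).fiber.obj U => M) t

theorem toSky_zero (F : EtCoh.Ab X) (M : AddCommGrpCat.{u + 1}) :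
    toSky ξ (0 : (EtCoh.stalk ξ).obj F ⟶ M) = 0 := by
  have h := toSky_counit ξ (0 : F ⟶ sky ξ M)
  rwa [Functor.map_zero, zero_comp] at h

/-- A component of a section of a skyscraper sheaf vanishes on zero. -/
theorem comp_zero' {M : AddCommGrpCat.{u + 1}} {U : X.Etale}
    (t : (Scheme.pointSmallEtale ξ).fiber.obj U) :
    comp ξ t (0 : (sky ξ M).obj.obj (op U)) = 0 := map_zero _

theorem toSky_comp {F : EtCoh.Ab X} {M : AddCommGrpCat.{u + 1}} (b : (EtCoh.stalk ξ).obj F ⟶ M)
    {U : X.Etale} (t : (Scheme.pointSmallEtale ξ).fiber.obj U) :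
    (toSky ξ b).hom.app (op U) ≫ comp ξ t = germ ξ F U t ≫ b := by
  show (((Scheme.pointSmallEtale ξ).skyscraperSheafAdjunction.homEquiv F M) b).hom.app (op U) ≫ _ = _
  erw [GrothendieckTopology.Point.skyscraperSheafAdjunction_homEquiv_apply_hom,
    GrothendieckTopology.Point.skyscraperPresheafHomEquiv_apply_app]
  exact Pi.lift_π (f := fun _ => M) _ t

theorem toSky_comp_apply {F : EtCoh.Ab X} {M : AddCommGrpCat.{u + 1}}
    (b : (EtCoh.stalk ξ).obj F ⟶ M) {U : X.Etale} (t : (Scheme.pointSmallEtale ξ).fiber.obj U)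
    (s : F.obj.obj (op U)) : comp ξ t ((toSky ξ b).hom.app (op U) s) = b (germ ξ F U t s) :=
  ConcreteCategory.congr_hom (toSky_comp ξ b t) s

theorem comp_apply {M : AddCommGrpCat.{u + 1}} {U : X.Etale}
    (t : (Scheme.pointSmallEtale ξ).fiber.obj U) (s : (sky ξ M).obj.obj (op U)) :
    comp ξ t s = skyCounit ξ M (germ ξ (sky ξ M) U t s) := by
  have h := toSky_comp_apply ξ (skyCounit ξ M) t s
  have e : toSky ξ (skyCounit ξ M) = 𝟙 _ := Equiv.apply_symm_apply _ _
  rw [e] at h
  exact h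

theorem sky_ext {M : AddCommGrpCat.{u + 1}} {U : X.Etale} (s s' : (sky ξ M).obj.obj (op U))
    (h : ∀ t, comp ξ t s = comp ξ t s') : s = s' :=
  Concrete.limit_ext (Discrete.functor fun _ : (Scheme.pointSmallEtale ξ).fiber.obj U => M) s s'
    fun t => h t.as

theorem map_comp_apply {M : AddCommGrpCat.{u + 1}} {U V : X.Etale} (g : V ⟶ U)
    (y : (Scheme.pointSmallEtale ξ).fiber.obj V) (s : (sky ξ M).obj.obj (op U)) :
    comp ξ y ((sky ξ M).obj.map g.op s) =
      comp ξ ((Scheme.pointSmallEtale ξ).fiber.map g y) s := by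
  rw [comp_apply, comp_apply, germ_res]

variable {x : X}

theorem isZero_stalk_sky (M : AddCommGrpCat.{u + 1}) (hx : IsClosed ({ξ default} : Set X))
    {Ω' : Type u} [Field Ω'] [IsSepClosed Ω'] (ζ : Spec (CommRingCat.of Ω') ⟶ X)
    (h : ζ default ≠ ξ default) : IsZero ((EtCoh.stalk ζ).obj (sky ξ M)) := by
  suffices hs : ∀ p : ↑((EtCoh.stalk ζ).obj (sky ξ M)), p = 0 by
    have : Subsingleton ↑((EtCoh.stalk ζ).obj (sky ξ M)) := ⟨fun a b => (hs a).trans (hs b).symm⟩
    exact AddCommGrpCat.isZero_of_subsingleton _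
  intro p
  obtain ⟨U, t, s, rfl⟩ := exists_germ_eq ζ _ p
  let O : U.left.Opens := ⟨(U.hom ⁻¹' {ξ default})ᶜ, (hx.preimage U.hom.continuous).isOpen_compl⟩
  obtain ⟨y, rfl⟩ := exists_lift_open O t (fun hh => h ((hom_pt t).symm.trans hh))
  rw [← germ_res]
  have : (sky ξ M).obj.map (openIncl O).op s = 0 := sky_ext ξ _ _ fun t' => by
    exfalso
    exact pt_mem_open t' (hom_pt _)
  rw [this, map_zero]

theorem zeroOff_sky (M : AddCommGrpCat.{u + 1}) (hx : IsClosed ({ξ default} : Set X)) {A : Set X}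
    (hA : ξ default ∈ A) : ZeroOff A (sky ξ M) := fun y hy =>
  isZero_stalk_sky ξ M hx _ fun h => hy (((geomPointAt_apply X y _).symm.trans h) ▸ hA)

theorem bijective_skyCounit [IsSepClosed (X.residueField (ξ default))] (M : AddCommGrpCat.{u + 1})
    (hx : IsClosed ({ξ default} : Set X)) : Function.Bijective (skyCounit ξ M) := by
  constructor
  · rw [injective_iff_map_eq_zero]
    intro p hp
    obtain ⟨U, t, s, rfl⟩ := exists_germ_eq ξ _ p
    rw [← comp_apply] at hp
    let O : U.left.Opens := ⟨((U.hom ⁻¹' {ξ default}) \ {pt t})ᶜ,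
      (isClosed_of_subset_fibre U hx Set.sdiff_subset).isOpen_compl⟩
    obtain ⟨y, hy⟩ := exists_lift_open O t (fun hh => hh.2 rfl)
    rw [← hy, ← germ_res]
    have : (sky ξ M).obj.map (openIncl O).op s = 0 := sky_ext ξ _ _ fun t' => by
      rw [map_comp_apply, map_zero]
      have e : (Scheme.pointSmallEtale ξ).fiber.map (openIncl O) t' =
          (Scheme.pointSmallEtale ξ).fiber.map (openIncl O) y := by
        rw [hy]
        exact fiber_ext _ _ (by_contra fun hne => pt_mem_open t' ⟨hom_pt _, hne⟩)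
      rw [e, hy, hp]
    rw [this, map_zero]
  · intro m
    let t : (Scheme.pointSmallEtale ξ).fiber.obj (EtCoh.top X) :=
      (Over.homMk ξ (Category.comp_id ξ) : Over.mk ξ ⟶ (Scheme.Etale.forget X).obj (EtCoh.top X))
    let s : (sky ξ M).obj.obj (op (EtCoh.top X)) :=
      (Pi.lift fun _ : (Scheme.pointSmallEtale ξ).fiber.obj (EtCoh.top X) => 𝟙 M) m
    refine ⟨germ ξ _ _ t s, ?_⟩
    rw [← comp_apply]
    exact ConcreteCategory.congr_hom
      (Pi.lift_π (f := fun _ : (Scheme.pointSmallEtale ξ).fiber.obj (EtCoh.top X) => M)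
        (fun _ => 𝟙 M) t) m

theorem injective_sky (M : AddCommGrpCat.{u + 1}) [Injective M] : Injective (sky ξ M) := by
  have : PreservesFiniteLimits (EtCoh.stalk ξ) := inferInstance
  have : (EtCoh.stalk ξ).PreservesMonomorphisms := preservesMonomorphisms_of_preservesLimitsOfShape _
  exact Adjunction.map_injective (Scheme.pointSmallEtale ξ).skyscraperSheafAdjunction M inferInstance

end Groth.Agent.PunctLib

namespace Groth.Agent.PunctLib

open EtaleSite EtaleSite.Flasque

variable {X : Scheme.{u}}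

/-- The product of the skyscrapers of the stalks outside a set. -/
abbrev skiesOff (A : Set X) (F : EtCoh.Ab X) : EtCoh.Ab X :=
  ∏ᶜ fun y : {y : X // y ∉ A} => sky (geomPointAt X y.1) ((EtCoh.stalk (geomPointAt X y.1)).obj F)

/-- The canonical map. -/
def toSkies (A : Set X) (F : EtCoh.Ab X) : F ⟶ skiesOff A F :=
  Pi.lift fun y => toSky (geomPointAt X y.1) (𝟙 _)

/-- The subsheaf of sections supported in a set of points. -/
def resIn (A : Set X) (F : EtCoh.Ab X) : EtCoh.Ab X := kernel (toSkies A F)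

/-- The inclusion of `resIn`. -/
def resInι (A : Set X) (F : EtCoh.Ab X) : resIn A F ⟶ F := kernel.ι (toSkies A F)

instance (A : Set X) (F : EtCoh.Ab X) : Mono (resInι A F) :=
  equalizer.ι_mono (f := toSkies A F) (g := 0)

theorem injective_stalk_ι (A : Set X) (F : EtCoh.Ab X) {Ω : Type u} [Field Ω] [IsSepClosed Ω]
    (ξ : Spec (CommRingCat.of Ω) ⟶ X) : Function.Injective ((EtCoh.stalk ξ).map (resInι A F)) :=
  (mono_iff_stalk _).1 inferInstance Ω ξ

theorem zeroOff_resIn (A : Set X) (F : EtCoh.Ab X) : ZeroOff A (resIn A F) := by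
  intro y hy
  have h : resInι A F ≫ toSky (geomPointAt X y) (𝟙 _) = 0 := by
    have h0 := congrArg (· ≫ Pi.π
      (fun y : {y : X // y ∉ A} => sky (geomPointAt X y.1) ((EtCoh.stalk (geomPointAt X y.1)).obj F)) ⟨y, hy⟩)
      (kernel.condition (toSkies A F))
    simp only [toSkies, Category.assoc, zero_comp] at h0
    rw [Pi.lift_π] at h0
    exact h0.trans zero_comp
  have h2 : (EtCoh.stalk (geomPointAt X y)).map (resInι A F) = 0 := by
    have := congrArg (fun k => (EtCoh.stalk (geomPointAt X y)).map k ≫ skyCounit (geomPointAt X y) _) h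
    simp only [Functor.map_comp, Category.assoc, map_toSky_counit, Category.comp_id, Functor.map_zero,
      zero_comp] at this
    exact this
  have : Subsingleton ↑((EtCoh.stalk (geomPointAt X y)).obj (resIn A F)) := ⟨fun a b =>
    injective_stalk_ι A F _ (by rw [h2]; rfl)⟩
  exact AddCommGrpCat.isZero_of_subsingleton _

/-- Maps whose stalks vanish outside a set factor through `resIn`. -/
theorem exists_lift_resIn {A : Set X} {G F : EtCoh.Ab X} (φ : G ⟶ F)
    (h : ∀ y, y ∉ A → (EtCoh.stalk (geomPointAt X y)).map φ = 0) :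
    ∃ ψ : G ⟶ resIn A F, ψ ≫ resInι A F = φ := by
  have h0 : φ ≫ toSkies A F = 0 := by
    refine Pi.hom_ext _ _ fun y => ?_
    simp only [toSkies, Category.assoc, zero_comp]
    rw [Pi.lift_π]
    rw [← toSky_counit (geomPointAt X y.1) (φ ≫ toSky (geomPointAt X y.1) (𝟙 _)),
      Functor.map_comp, h y.1 y.2, zero_comp, zero_comp, toSky_zero]
  exact ⟨kernel.lift _ φ h0, kernel.lift_ι _ _ _⟩

theorem freeSec_zero (U : X.Etale) (G : EtCoh.Ab X) : freeSec U G 0 = 0 := by
  have h := freeSec_comp U (𝟙 (freeOn U)) (0 : freeOn U ⟶ G)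
  rw [Category.id_comp] at h
  exact h

/-- Sections with vanishing germs outside a set come from `resIn`. -/
theorem exists_section_resIn {A : Set X} {F : EtCoh.Ab X} {U : X.Etale} (s : F.obj.obj (op U))
    (h : ∀ (y : X), y ∉ A → ∀ t : (Scheme.pointSmallEtale (geomPointAt X y)).fiber.obj U,
      germ (geomPointAt X y) F U t s = 0) :
    ∃ s' : (resIn A F).obj.obj (op U), (resInι A F).hom.app (op U) s' = s := by
  obtain ⟨ψ, hψ⟩ := (freeSec_bijective U F).2 s
  have h0 : ψ ≫ toSkies A F = 0 := by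
    refine Pi.hom_ext _ _ fun y => ?_
    simp only [toSkies, Category.assoc, zero_comp]
    rw [Pi.lift_π]
    refine (freeSec_bijective U _).1 ?_
    rw [freeSec_comp, hψ]
    refine (sky_ext _ _ _ fun t => ?_).trans (freeSec_zero U _).symm
    rw [toSky_comp_apply, h y.1 y.2 t, map_zero]
    exact (comp_zero' _ t).symm
  refine ⟨freeSec U _ (kernel.lift _ ψ h0), ?_⟩
  rw [resInι, ← freeSec_comp]
  exact (congrArg (freeSec U F) (kernel.lift_ι _ _ _)).trans hψ

end Groth.Agent.PunctLib
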