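import Groth.Agent.PunctLib.Sky
import Groth.Agent.Wt.Bound
import Mathlib.RingTheory.Noetherian.Basic

/-!
# Finiteness of the support of maps from subsheaves of free sheaves to punctual sheaves
-/

set_option autoImplicit false

universe u

open CategoryTheory CategoryTheory.Limits AlgebraicGeometry Opposite TopologicalSpace

noncomputable section

namespace Groth.Agent.PunctLib

open EtaleSite EtaleSite.Flasque

variable {X : Scheme.{u}} {Ω : Type u} [Field Ω] [IsSepClosed Ω] (ξ : Spec (CommRingCat.of Ω) ⟶ X)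

/-- The tautological section of a free sheaf. -/
def eps (U : X.Etale) : (freeOn U).obj.obj (op U) := freeSec U (freeOn U) (𝟙 _)

theorem hom_apply_eps (U : X.Etale) {G : EtCoh.Ab X} (a : freeOn U ⟶ G) :
    a.hom.app (op U) (eps U) = freeSec U G a := by
  rw [eps, ← freeSec_comp, Category.id_comp]

/-- The stalks of a free sheaf are generated by the germs of the tautological section. -/
theorem mem_span_eps (U : X.Etale) (p : ↑((EtCoh.stalk ξ).obj (freeOn U))) :
    p ∈ Submodule.span ℤ (Set.range fun t : (Scheme.pointSmallEtale ξ).fiber.obj U =>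
      germ ξ (freeOn U) U t (eps U)) := by
  let N := Submodule.span ℤ (Set.range fun t : (Scheme.pointSmallEtale ξ).fiber.obj U =>
    germ ξ (freeOn U) U t (eps U))
  let M : AddCommGrpCat.{u + 1} := AddCommGrpCat.of (↑((EtCoh.stalk ξ).obj (freeOn U)) ⧸ N)
  let f : (EtCoh.stalk ξ).obj (freeOn U) ⟶ M := AddCommGrpCat.ofHom N.mkQ.toAddMonoidHom
  have h : toSky ξ f = 0 := by
    refine (freeSec_bijective U (sky ξ M)).1 ?_
    rw [freeSec_zero, ← hom_apply_eps]
    refine sky_ext ξ _ _ fun t => ?_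
    rw [toSky_comp_apply]
    refine Eq.trans ?_ (comp_zero' ξ t).symm
    exact (Submodule.Quotient.mk_eq_zero N).2 (Submodule.subset_span ⟨t, rfl⟩)
  have hf : f = 0 := by
    have h' := map_toSky_counit ξ f
    rw [h, Functor.map_zero, zero_comp] at h'
    exact h'.symm
  exact (Submodule.Quotient.mk_eq_zero N).1 (ConcreteCategory.congr_hom hf p)

/-- A scheme parametrising tuples of points of an étale scheme. -/
theorem exists_tuples [IsLocallyNoetherian X] [CompactSpace X] (U : X.Etale) [CompactSpace U.left] :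
    ∀ n : ℕ, ∃ (P : X.Etale) (_ : CompactSpace P.left) (e : Fin n → (P ⟶ U)),
      ∀ (Ω : Type u) [Field Ω] [IsSepClosed Ω] (ξ : Spec (CommRingCat.of Ω) ⟶ X)
        (s : Fin n → (Scheme.pointSmallEtale ξ).fiber.obj U),
        ∃ t : (Scheme.pointSmallEtale ξ).fiber.obj P,
          ∀ i, (Scheme.pointSmallEtale ξ).fiber.map (e i) t = s i := by
  intro n
  induction n with
  | zero =>
    exact ⟨EtCoh.top X, (inferInstance : CompactSpace X), finZeroElim, fun Ω _ _ ξ _ =>
      ⟨(Over.homMk ξ (Category.comp_id ξ) : Over.mk ξ ⟶ (Scheme.Etale.forget X).obj (EtCoh.top X)),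
        fun i => i.elim0⟩⟩
  | succ n ih =>
    obtain ⟨P, hP, e, he⟩ := ih
    have : IsNoetherian X := {}
    have : QuasiCompact (U.hom : U.left ⟶ X) := quasiCompact_of_compactSpace (X := U.left) (Y := X) U.hom
    let p1 : pullback (P.hom : P.left ⟶ X) (U.hom : U.left ⟶ X) ⟶ P.left := pullback.fst _ _
    let p2 : pullback (P.hom : P.left ⟶ X) (U.hom : U.left ⟶ X) ⟶ U.left := pullback.snd _ _
    have hw : p1 ≫ P.hom = p2 ≫ U.hom := pullback.condition
    let Q : X.Etale := Scheme.Etale.mk (p1 ≫ P.hom)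
    let q : Q ⟶ P := MorphismProperty.Over.homMk p1 rfl
    let r : Q ⟶ U := MorphismProperty.Over.homMk p2 hw.symm
    have hp1 : QuasiCompact p1 := MorphismProperty.pullback_fst _ _ ‹QuasiCompact (U.hom : U.left ⟶ X)›
    have : CompactSpace Q.left := @QuasiCompact.compactSpace_of_compactSpace _ _ p1 hp1 hP
    refine ⟨Q, this, Fin.snoc (fun i => q ≫ e i) r, fun Ω _ _ ξ s => ?_⟩
    obtain ⟨t, ht⟩ := he Ω ξ (fun i => s i.castSucc)
    let a : Over.mk ξ ⟶ (Scheme.Etale.forget X).obj P := t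
    let b : Over.mk ξ ⟶ (Scheme.Etale.forget X).obj U := s (Fin.last n)
    let l : Spec (CommRingCat.of Ω) ⟶ pullback (P.hom : P.left ⟶ X) (U.hom : U.left ⟶ X) :=
      pullback.lift a.left b.left ((Over.w a).trans (Over.w b).symm)
    have hl : l ≫ p1 ≫ P.hom = ξ :=
      (Category.assoc _ _ _).symm.trans ((congrArg (· ≫ P.hom) (pullback.lift_fst _ _ _)).trans
        (Over.w a))
    refine ⟨(Over.homMk l hl : Over.mk ξ ⟶ (Scheme.Etale.forget X).obj Q), fun i => ?_⟩
    induction i using Fin.lastCases with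
    | last =>
      rw [Fin.snoc_last]
      exact Over.OverMorphism.ext (pullback.lift_snd _ _ _)
    | cast i =>
      rw [Fin.snoc_castSucc, Functor.map_comp]
      refine (congrArg ((Scheme.pointSmallEtale ξ).fiber.map (e i)) ?_).trans (ht i)
      exact Over.OverMorphism.ext (pullback.lift_fst _ _ _)

variable {ξ}

/-- An identity of germs spreads to a neighbourhood. -/
theorem exists_spread {G M : EtCoh.Ab X} (ι : G ⟶ M) {P : X.Etale} (σ : M.obj.obj (op P))
    (t : (Scheme.pointSmallEtale ξ).fiber.obj P) (g : ↑((EtCoh.stalk ξ).obj G))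
    (h : (EtCoh.stalk ξ).map ι g = germ ξ M P t σ) :
    ∃ (V : X.Etale) (k : V ⟶ P) (v : (Scheme.pointSmallEtale ξ).fiber.obj V) (gV : G.obj.obj (op V)),
      (Scheme.pointSmallEtale ξ).fiber.map k v = t ∧ germ ξ G V v gV = g ∧
        ι.hom.app (op V) gV = M.obj.map k.op σ := by
  obtain ⟨U, x, s, rfl⟩ := exists_germ_eq ξ G g
  rw [germ_naturality] at h
  obtain ⟨z, ⟨p₁, hp₁⟩, ⟨p₂, hp₂⟩, -⟩ :=
    IsCofilteredOrEmpty.cone_objs
      ((Scheme.pointSmallEtale ξ).fiber.elementsMk _ x)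
      ((Scheme.pointSmallEtale ξ).fiber.elementsMk _ t)
  have hz : germ ξ M z.1 z.2 (M.obj.map p₁.op (ι.hom.app _ s)) =
      germ ξ M z.1 z.2 (M.obj.map p₂.op σ) := by
    rw [germ_res, germ_res, hp₁, hp₂]
    exact h
  obtain ⟨V, k, v, hv, e⟩ := (germ_eq_iff ξ M z.1 z.2 _ _).1 hz
  refine ⟨V, k ≫ p₂, v, G.obj.map (k ≫ p₁).op s, ?_, ?_, ?_⟩
  · rw [Functor.map_comp]
    exact (congrArg _ hv).trans hp₂
  · rw [germ_res]
    refine congrArg (fun w => germ ξ G U w s) ?_
    rw [Functor.map_comp]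
    exact (congrArg _ hv).trans hp₁
  · rw [NatTrans.naturality_apply, op_comp, op_comp, Functor.map_comp, Functor.map_comp]
    exact e

/-- The bad points for a map of a subsheaf to a punctual sheaf. -/
def badSet {G M E : EtCoh.Ab X} (ι : G ⟶ M) (φ : G ⟶ E) {P : X.Etale} {d : ℕ}
    (σ : Fin d → M.obj.obj (op P)) : Set P.left :=
  {p | ∃ (Ω : Type u) (_ : Field Ω) (_ : IsSepClosed Ω) (ξ : Spec (CommRingCat.of Ω) ⟶ X)
    (t : (Scheme.pointSmallEtale ξ).fiber.obj P) (r : Fin d → ℤ) (g : ↑((EtCoh.stalk ξ).obj G)),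
    pt t = p ∧ (EtCoh.stalk ξ).map ι g = germ ξ M P t (∑ i, r i • σ i) ∧
      (EtCoh.stalk ξ).map φ g ≠ 0}

theorem finite_badSet [IsLocallyNoetherian X] {G M E : EtCoh.Ab X} (ι : G ⟶ M) [Mono ι] (φ : G ⟶ E)
    (hE : ZeroOff (C0 X) E) {P : X.Etale} [CompactSpace P.left] {d : ℕ}
    (σ : Fin d → M.obj.obj (op P)) : (badSet ι φ σ).Finite := by
  have := noetherianSpace_left P
  refine finite_of_avoid _ fun p₀ hp₀ => ?_
  let ξ₀ := geomPointAt X (P.hom p₀)
  obtain ⟨t₀, ht₀⟩ := exists_fiber_point ξ₀ P p₀ (geomPointAt_apply X (P.hom p₀) _).symm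
  have ht₀' : pt t₀ = p₀ := ht₀
  let c : (Fin d → ℤ) →ₗ[ℤ] ↑((EtCoh.stalk ξ₀).obj M) :=
    Fintype.linearCombination ℤ fun i => germ ξ₀ M P t₀ (σ i)
  have hc : ∀ r, c r = germ ξ₀ M P t₀ (∑ i, r i • σ i) := fun r => by
    rw [map_sum]
    simp only [c, Fintype.linearCombination_apply, map_zsmul]
  let I : Submodule ℤ ↑((EtCoh.stalk ξ₀).obj M) :=
    LinearMap.range ((EtCoh.stalk ξ₀).map ι).hom.toIntLinearMap
  obtain ⟨S, hS⟩ := IsNoetherian.noetherian (I.comap c)
  have hSI : ∀ r : S, c r.1 ∈ I := fun r =>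
    (hS ▸ Submodule.subset_span r.2 : r.1 ∈ I.comap c)
  have key : ∀ r : S, ∃ (O : P.left.Opens), p₀ ∈ O ∧
      ∀ (Ω : Type u) [Field Ω] [IsSepClosed Ω] (ξ : Spec (CommRingCat.of Ω) ⟶ X)
        (t : (Scheme.pointSmallEtale ξ).fiber.obj P), pt t ∈ O →
        ∃ g, (EtCoh.stalk ξ).map ι g = germ ξ M P t (∑ i, r.1 i • σ i) ∧
          (EtCoh.stalk ξ).map φ g = 0 := fun r => by
    obtain ⟨g, hg⟩ := hSI r
    obtain ⟨V, k, v, gV, hv, -, e⟩ := exists_spread ι (∑ i, r.1 i • σ i) t₀ g (hg.trans (hc r.1))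
    have h0 : germ ξ₀ E V v (φ.hom.app (op V) gV) = 0 :=
      eq_zero_of_isZero (hE.isZero_stalk ξ₀
        (fun hh => not_isClosed_image P hp₀ ((geomPointAt_apply X (P.hom p₀) _) ▸ hh))) _
    obtain ⟨O, hO, hO'⟩ := exists_open_germ_eq_zero E v _ h0
    have := etale_left k
    refine ⟨⟨k.left '' O, k.left.isOpenMap _ O.2⟩,
      ⟨pt v, hO, (pt_map k v).symm.trans ((congrArg pt hv).trans ht₀')⟩, ?_⟩
    rintro Ω _ _ ξ t ⟨w, hw, hwt⟩
    obtain ⟨y, hy, hyw⟩ := exists_lift k t w hwt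
    refine ⟨germ ξ G V y gV, ?_, ?_⟩
    · rw [germ_naturality, e, germ_res, hy]
    · rw [germ_naturality]
      exact hO' Ω ξ y (hyw ▸ hw)
  choose O hO hO' using key
  refine ⟨⋂ r : S, (O r : Set P.left), isOpen_iInter_of_finite fun r => (O r).2,
    Set.mem_iInter.2 hO, Set.eq_empty_iff_forall_notMem.2 ?_⟩
  rintro p ⟨⟨hpO, hpc⟩, Ω, _, _, ξ, t, r, g, rfl, hg, hne⟩
  obtain ⟨V, k, v, gV, hv, -, e⟩ := exists_spread ι (∑ i, r i • σ i) t g hg
  have := etale_left k
  have hp₀k : p₀ ∈ Set.range k.left :=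
    (specializes_iff_mem_closure.2 hpc).mem_open k.left.isOpenMap.isOpen_range
      ⟨pt v, (pt_map k v).symm.trans (congrArg pt hv)⟩
  obtain ⟨w, hw⟩ := hp₀k
  obtain ⟨y, hy, -⟩ := exists_lift k t₀ w (hw.trans ht₀'.symm)
  have hr : r ∈ I.comap c := ⟨germ ξ₀ G V y gV,
    (germ_naturality ξ₀ ι V y gV).trans (by rw [e, germ_res, hy, hc])⟩
  rw [← hS, Submodule.mem_span_finset] at hr
  obtain ⟨a, -, ha⟩ := hr
  choose g' hg' hφg' using fun q : S => hO' q Ω ξ t (Set.mem_iInter.1 hpO q)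
  have hgg : g = ∑ q : S, a q.1 • g' q := by
    refine (mono_iff_stalk ι).1 inferInstance Ω ξ ?_
    rw [hg, map_sum, map_sum]
    have e2 : ∀ q : S, (EtCoh.stalk ξ).map ι (a q.1 • g' q) =
        ∑ i, (a q.1 * q.1 i) • germ ξ M P t (σ i) := fun q => by
      rw [map_zsmul, hg', map_sum, Finset.smul_sum]
      simp only [map_zsmul, mul_smul]
    simp only [e2, map_zsmul]
    rw [Finset.sum_comm]
    refine Finset.sum_congr rfl fun i _ => ?_
    rw [← Finset.sum_smul]
    congr 1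
    rw [← ha, Finset.sum_apply, ← Finset.sum_coe_sort S]
    simp [Pi.smul_apply]
  refine hne ?_
  rw [hgg, map_sum]
  simp only [map_zsmul, hφg', smul_zero, Finset.sum_const_zero]

/-- A map from a subsheaf of a free sheaf to a punctual sheaf has finite support. -/
theorem exists_finite_supp [IsLocallyNoetherian X] [CompactSpace X] {U : X.Etale}
    [CompactSpace U.left] {G E : EtCoh.Ab X} (ι : G ⟶ freeOn U) [Mono ι] (φ : G ⟶ E)
    (hE : ZeroOff (C0 X) E) :
    ∃ T : Finset X, (∀ x ∈ T, IsClosed ({x} : Set X)) ∧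
      ∀ y ∉ T, (EtCoh.stalk (geomPointAt X y)).map φ = 0 := by
  classical
  have : LocallyQuasiFinite (U.hom : U.left ⟶ X) :=
    locallyQuasiFinite_of_etale (W := U.left) (Y := X) U.hom
  obtain ⟨d, hd⟩ := Wt.Bound.exists_bound_geomFib (X := U.left) (Y := X) U.hom
  obtain ⟨P, hP, e, he⟩ := exists_tuples U d
  let σ := fun i => (freeOn U).obj.map (e i).op (eps U)
  have hB := finite_badSet ι φ hE σ
  refine ⟨(hB.image fun p => P.hom p).toFinset.filter fun x => IsClosed ({x} : Set X),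
    fun x hx => (Finset.mem_filter.1 hx).2, fun y hy => ?_⟩
  let ξ := geomPointAt X y
  have hξ : ξ default = y := geomPointAt_apply X y _
  ext g
  show (EtCoh.stalk ξ).map φ g = 0
  by_contra hne
  have hyc : IsClosed ({y} : Set X) := by
    by_contra hc
    exact hne (eq_zero_of_isZero (hE _ hc) _)
  refine hy (Finset.mem_filter.2 ⟨(Set.Finite.mem_toFinset _).2 ?_, hyc⟩)
  obtain ⟨hfin, hcard⟩ := hd (SeparableClosure (X.residueField y)) ξ
  let Φ : (Scheme.pointSmallEtale ξ).fiber.obj U → Wt.GeomPts.GeomFib (U.hom : U.left ⟶ X) ξ :=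
    fun t => ⟨(show Over.mk ξ ⟶ (Scheme.Etale.forget X).obj U from t).left,
      Over.w (show Over.mk ξ ⟶ (Scheme.Etale.forget X).obj U from t)⟩
  have hΦ : Function.Injective Φ := fun t t' h => Over.OverMorphism.ext (congrArg Subtype.val h :)
  have := Finite.of_injective Φ hΦ
  have := Fintype.ofFinite ((Scheme.pointSmallEtale ξ).fiber.obj U)
  rcases isEmpty_or_nonempty ((Scheme.pointSmallEtale ξ).fiber.obj U) with hem | hne'
  · exfalso
    have h0 : (EtCoh.stalk ξ).map ι g = 0 := by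
      have h1 := mem_span_eps ξ U ((EtCoh.stalk ξ).map ι g)
      rw [Set.range_eq_empty, Submodule.span_empty] at h1
      exact (Submodule.mem_bot ℤ).1 h1
    have : g = 0 := (mono_iff_stalk ι).1 inferInstance _ ξ (h0.trans (map_zero _).symm)
    exact hne (by rw [this, map_zero])
  · have hle : Nat.card ((Scheme.pointSmallEtale ξ).fiber.obj U) ≤ d :=
      (Nat.card_le_card_of_injective Φ hΦ).trans hcard
    let emb : (Scheme.pointSmallEtale ξ).fiber.obj U ↪ Fin d :=
      ⟨fun t => Fin.castLE hle (Finite.equivFin _ t),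
        (Fin.castLE_injective hle).comp (Finite.equivFin _).injective⟩
    let sel : Fin d → (Scheme.pointSmallEtale ξ).fiber.obj U := Function.invFun emb
    obtain ⟨t, ht⟩ := he _ ξ sel
    obtain ⟨r, hr⟩ := (Submodule.mem_span_range_iff_exists_fun ℤ).1
      (show (EtCoh.stalk ξ).map ι g ∈ Submodule.span ℤ
        (Set.range fun i => germ ξ (freeOn U) P t (σ i)) from by
        refine (Submodule.span_mono ?_) (mem_span_eps ξ U _)
        rintro _ ⟨w, rfl⟩
        refine ⟨emb w, ?_⟩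
        show germ ξ (freeOn U) P t ((freeOn U).obj.map (e (emb w)).op (eps U)) = _
        rw [germ_res, ht]
        exact congrArg (fun z => germ ξ (freeOn U) U z (eps U))
          (Function.leftInverse_invFun emb.injective w))
    refine ⟨pt t, ⟨_, _, _, ξ, t, r, g, rfl, ?_, hne⟩, (hom_pt t).trans hξ⟩
    rw [map_sum, ← hr]
    simp only [map_zsmul]

end Groth.Agent.PunctLib
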