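import Groth.Agent.PunctLib.Finite
import Groth.Agent.SiteCoh.Baer
import Mathlib.Algebra.Category.Grp.Injective
import Mathlib.Algebra.Category.Grp.EnoughInjectives
import Mathlib.Algebra.Homology.ShortComplex.ShortExact

/-!
# Punctual sheaves have injective dimension at most one

On a Noetherian scheme whose closed points have separably closed residue fields, a sheaf with
zero stalks outside the closed points and injective stalks is injective.
-/

set_option autoImplicit false

universe u

open CategoryTheory CategoryTheory.Limits AlgebraicGeometry Opposite TopologicalSpace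

noncomputable section

namespace Groth.Agent.PunctLib

open EtaleSite EtaleSite.Flasque

variable {X : Scheme.{u}}

theorem surjective_stalk_of_geomPointAt {F G : EtCoh.Ab X} (a : F ⟶ G) {Ω : Type u} [Field Ω]
    [IsSepClosed Ω] (ξ : Spec (CommRingCat.of Ω) ⟶ X)
    (h : Function.Surjective ((EtCoh.stalk (geomPointAt X (ξ default))).map a)) :
    Function.Surjective ((EtCoh.stalk ξ).map a) := by
  obtain ⟨i⟩ := nonempty_stalk_iso_geomPointAt ξ
  intro p
  obtain ⟨q, hq⟩ := h (i.hom.app G p)
  refine ⟨i.inv.app F q, ?_⟩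
  rw [← NatTrans.naturality_apply i.inv a q, hq]
  exact ConcreteCategory.congr_hom (Iso.hom_inv_id_app i G) p

theorem injective_stalk_of_geomPointAt {F G : EtCoh.Ab X} (a : F ⟶ G) {Ω : Type u} [Field Ω]
    [IsSepClosed Ω] (ξ : Spec (CommRingCat.of Ω) ⟶ X)
    (h : Function.Injective ((EtCoh.stalk (geomPointAt X (ξ default))).map a)) :
    Function.Injective ((EtCoh.stalk ξ).map a) := by
  obtain ⟨i⟩ := nonempty_stalk_iso_geomPointAt ξ
  intro p q hpq
  exact (ConcreteCategory.bijective_of_isIso (i.hom.app F)).1 (h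
    ((NatTrans.naturality_apply i.hom a p).symm.trans ((congrArg (i.hom.app G) hpq).trans
      (NatTrans.naturality_apply i.hom a q))))

theorem zeroOff_of_mono {A : Set X} {F G : EtCoh.Ab X} (a : F ⟶ G) [Mono a] (hG : ZeroOff A G) :
    ZeroOff A F := fun y hy => by
  have : Subsingleton ↑((EtCoh.stalk (geomPointAt X y)).obj F) := ⟨fun p q =>
    (mono_iff_stalk a).1 inferInstance _ _
      ((eq_zero_of_isZero (hG y hy) _).trans (eq_zero_of_isZero (hG y hy) _).symm)⟩
  exact AddCommGrpCat.isZero_of_subsingleton _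

theorem zeroOff_of_epi {A : Set X} {F G : EtCoh.Ab X} (a : F ⟶ G) [Epi a] (hF : ZeroOff A F) :
    ZeroOff A G := fun y hy => by
  have : Subsingleton ↑((EtCoh.stalk (geomPointAt X y)).obj G) := ⟨fun p q => by
    obtain ⟨p, rfl⟩ := (epi_iff_stalk a).1 inferInstance _ _ p
    obtain ⟨q, rfl⟩ := (epi_iff_stalk a).1 inferInstance _ _ q
    rw [eq_zero_of_isZero (hF y hy) p, eq_zero_of_isZero (hF y hy) q]⟩
  exact AddCommGrpCat.isZero_of_subsingleton _

theorem isClosed_image_of_mem_suppSec {F : EtCoh.Ab X} (hF : ZeroOff (C0 X) F) {U : X.Etale}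
    {s : F.obj.obj (op U)} {p : U.left} (hp : p ∈ suppSec F s) : IsClosed ({U.hom p} : Set X) := by
  obtain ⟨Ω, _, _, ξ, t, rfl, ht⟩ := hp
  by_contra hc
  rw [hom_pt] at hc
  exact ht (eq_zero_of_isZero (hF.isZero_stalk ξ hc) _)

/-- A section with finite support can be shrunk to a neighbourhood where it is supported only at a
given point. -/
theorem exists_shrink_supp [IsLocallyNoetherian X] {F : EtCoh.Ab X} (hF : ZeroOff (C0 X) F)
    {U : X.Etale} [CompactSpace U.left] {Ω : Type u} [Field Ω] [IsSepClosed Ω]
    {ξ : Spec (CommRingCat.of Ω) ⟶ X} (t : (Scheme.pointSmallEtale ξ).fiber.obj U)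
    (s : F.obj.obj (op U)) :
    ∃ (V : X.Etale) (k : V ⟶ U) (y : (Scheme.pointSmallEtale ξ).fiber.obj V),
      (Scheme.pointSmallEtale ξ).fiber.map k y = t ∧ IsOpenImmersion k.left ∧
      ∀ (Ω' : Type u) [Field Ω'] [IsSepClosed Ω'] (ζ : Spec (CommRingCat.of Ω') ⟶ X)
        (z : (Scheme.pointSmallEtale ζ).fiber.obj V),
          germ ζ F V z (F.obj.map k.op s) ≠ 0 → pt z = pt y := by
  have := noetherianSpace_left U
  have hfin := finite_suppSec hF s
  have hcl : IsClosed (suppSec F s \ {pt t}) := by
    rw [← Set.biUnion_of_singleton (suppSec F s \ {pt t})]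
    exact (hfin.subset Set.sdiff_subset).isClosed_biUnion fun p hp =>
      isClosed_of_isClosed_image U (isClosed_image_of_mem_suppSec hF hp.1)
  let O : U.left.Opens := ⟨(suppSec F s \ {pt t})ᶜ, hcl.isOpen_compl⟩
  obtain ⟨y, hy⟩ := exists_lift_open O t (fun hh => hh.2 rfl)
  refine ⟨openObj O, openIncl O, y, hy, inferInstanceAs (IsOpenImmersion O.ι),
    fun Ω' _ _ ζ z hz => ?_⟩
  rw [germ_res] at hz
  have h1 : pt ((Scheme.pointSmallEtale ζ).fiber.map (openIncl O) z) = pt t :=
    by_contra fun hne => pt_mem_open z ⟨⟨_, _, _, ζ, _, rfl, hz⟩, hne⟩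
  rw [← hy, pt_map, pt_map] at h1
  exact O.ι.isOpenEmbedding.injective h1

/-- The stalks of the sections supported in a set at a point of the set. -/
theorem surjective_stalk_resInι [IsLocallyNoetherian X] {F : EtCoh.Ab X} (hF : ZeroOff (C0 X) F)
    {A : Set X} {Ω : Type u} [Field Ω] [IsSepClosed Ω] (ξ : Spec (CommRingCat.of Ω) ⟶ X)
    (hA : ξ default ∈ A) : Function.Surjective ((EtCoh.stalk ξ).map (resInι A F)) := by
  intro p
  obtain ⟨U, hU, t, s, rfl⟩ := exists_germ_compact F p
  obtain ⟨V, k, y, hy, -, hV⟩ := exists_shrink_supp hF t s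
  obtain ⟨s', hs'⟩ := exists_section_resIn (A := A) (F.obj.map k.op s) fun z hz w =>
    by_contra fun hne => hz (by
      have := congrArg (fun q => V.hom q) (hV _ _ w hne)
      simp only [hom_pt] at this
      exact ((geomPointAt_apply X z _).symm.trans this) ▸ hA)
  refine ⟨germ ξ _ V y s', ?_⟩
  rw [germ_naturality, hs', germ_res, hy]

variable (hsc : ∀ x : X, IsClosed ({x} : Set X) → IsSepClosed (X.residueField x))

include hsc in
theorem bijective_counit_geomPointAt (M : AddCommGrpCat.{u + 1}) {x : X} (hx : IsClosed ({x} : Set X)) :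
    Function.Bijective (skyCounit (geomPointAt X x) M) := by
  have h := geomPointAt_apply X x default
  have : IsSepClosed (X.residueField (geomPointAt X x default)) := by
    rw [h]; exact hsc x hx
  exact bijective_skyCounit _ M (by rw [h]; exact hx)

include hsc in
/-- A sheaf supported at finitely many closed points with injective stalks is injective. -/
theorem injective_of_finset [IsLocallyNoetherian X] :
    ∀ (T : Finset X) (E : EtCoh.Ab X), (∀ x ∈ T, IsClosed ({x} : Set X)) → ZeroOff (↑T : Set X) E →
      (∀ x ∈ T, Injective ((EtCoh.stalk (geomPointAt X x)).obj E)) → Injective E := by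
  classical
  intro T
  induction T using Finset.induction_on with
  | empty =>
    intro E _ hE _
    have : IsZero E := (isZero_iff_stalk E).2 fun Ω _ _ ξ => hE.isZero_stalk ξ (by simp)
    exact this.injective
  | @insert x T hxT ih =>
    intro E hT hE hinj
    have hx := hT x (Finset.mem_insert_self _ _)
    let ξ := geomPointAt X x
    have hξ : ξ default = x := geomPointAt_apply X x _
    have hξc : IsClosed ({ξ default} : Set X) := by rw [hξ]; exact hx
    let M := (EtCoh.stalk ξ).obj E
    let q : E ⟶ sky ξ M := toSky ξ (𝟙 _)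
    have hqb : Function.Bijective ((EtCoh.stalk ξ).map q) := by
      have h := map_toSky_counit ξ (𝟙 M)
      have hb := bijective_counit_geomPointAt hsc M hx
      have hid : ∀ p, skyCounit ξ M ((EtCoh.stalk ξ).map q p) = p := fun p =>
        ConcreteCategory.congr_hom h p
      refine ⟨fun a b hab => ?_, fun p => ⟨skyCounit ξ M p, hb.1 ?_⟩⟩
      · rw [← hid a, ← hid b, hab]
      · rw [hid]
    have : Epi q := epi_of_stalk q fun Ω _ _ ζ => surjective_stalk_of_geomPointAt q ζ (by
      by_cases hz : ζ default = x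
      · rw [hz]; exact hqb.2
      · exact fun p => ⟨0, by
          rw [map_zero]
          refine (eq_zero_of_isZero (isZero_stalk_sky ξ M hξc _ ?_) p).symm
          rw [geomPointAt_apply, hξ]; exact hz⟩)
    let S : ShortComplex (EtCoh.Ab X) := ShortComplex.mk (kernel.ι q) q (kernel.condition q)
    have hS : S.ShortExact := { exact := ShortComplex.exact_kernel q }
    have hK : ZeroOff (↑T : Set X) (kernel q) := fun y hy => by
      by_cases hyx : y = x
      · subst hyx
        have h0 : (EtCoh.stalk ξ).map (kernel.ι q) ≫ (EtCoh.stalk ξ).map q = 0 := by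
          rw [← Functor.map_comp, kernel.condition, Functor.map_zero]
        have : Subsingleton ↑((EtCoh.stalk ξ).obj (kernel q)) := ⟨fun a b =>
          (mono_iff_stalk (kernel.ι q)).1 inferInstance _ ξ (hqb.1
            ((ConcreteCategory.congr_hom h0 a).trans (ConcreteCategory.congr_hom h0 b).symm))⟩
        exact AddCommGrpCat.isZero_of_subsingleton _
      · exact zeroOff_of_mono (kernel.ι q) hE y (by
          simp only [Finset.coe_insert, Set.mem_insert_iff, not_or]
          exact ⟨hyx, hy⟩)
    have : Injective (kernel q) := by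
      refine ih _ (fun y hy => hT y (Finset.mem_insert_of_mem hy)) hK fun y hy => ?_
      have : Injective ((EtCoh.stalk (geomPointAt X y)).obj E) := hinj y (Finset.mem_insert_of_mem hy)
      have hS' := hS.map (F := EtCoh.stalk (geomPointAt X y))
      have hz : IsZero ((EtCoh.stalk (geomPointAt X y)).obj (sky ξ M)) :=
        isZero_stalk_sky ξ M hξc _ (by rw [geomPointAt_apply, hξ]; rintro rfl; exact hxT hy)
      have : IsIso ((EtCoh.stalk (geomPointAt X y)).map (kernel.ι q)) :=
        hS'.isIso_f_iff.2 hz
      exact Injective.of_iso (asIso ((EtCoh.stalk (geomPointAt X y)).map (kernel.ι q))).symm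
        (hinj y (Finset.mem_insert_of_mem hy))
    have : Injective M := hinj x (Finset.mem_insert_self _ _)
    have : Injective (sky ξ M) := injective_sky ξ M
    have : Injective S.X₁ := ‹Injective (kernel q)›
    have : Injective S.X₃ := ‹Injective (sky ξ M)›
    exact Injective.of_iso (hS.splittingOfInjective).isoBinaryBiproduct.symm
      (inferInstanceAs (Injective (S.X₁ ⊞ S.X₃)))

include hsc in
/-- A punctual sheaf with injective stalks is injective. -/
theorem injective_of_zeroOff [IsNoetherian X] (E : EtCoh.Ab X) (hE : ZeroOff (C0 X) E)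
    (hinj : ∀ x : X, IsClosed ({x} : Set X) → Injective ((EtCoh.stalk (geomPointAt X x)).obj E)) :
    Injective E := by
  refine SiteCoh.Baer.injective_of_family
    (fun U : {U : X.Etale // CompactSpace U.left} => freeOn U.1) (fun {F G} p _ hp => ?_) E
    (fun U S s _ φ => ?_)
  · have hnepi : ¬ Epi p := fun _ => hp (isIso_of_mono_of_epi p)
    rw [epi_iff_stalk] at hnepi
    push Not at hnepi
    obtain ⟨Ω, _, _, ξ, hns⟩ := hnepi
    rw [Function.Surjective] at hns
    push Not at hns
    obtain ⟨g, hg⟩ := hns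
    obtain ⟨U, hU, t, s, rfl⟩ := exists_germ_compact G g
    obtain ⟨f, hf⟩ := (freeSec_bijective U G).2 s
    refine ⟨⟨U, hU⟩, f, fun a ha => hg (germ ξ F U t (freeSec U F a)) ?_⟩
    rw [germ_naturality, ← freeSec_comp, ha, hf]
  · have := U.2
    obtain ⟨T, hT, hTφ⟩ := exists_finite_supp s φ hE
    obtain ⟨ψ, hψ⟩ := exists_lift_resIn (A := (↑T : Set X)) φ hTφ
    have : Injective (resIn (↑T : Set X) E) := by
      refine injective_of_finset hsc T _ hT (zeroOff_resIn _ _) fun x hx => ?_
      let ξ := geomPointAt X x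
      have : IsIso ((EtCoh.stalk ξ).map (resInι (↑T : Set X) E)) :=
        (ConcreteCategory.isIso_iff_bijective _).2 ⟨injective_stalk_ι _ _ ξ,
          surjective_stalk_resInι hE ξ (by rw [geomPointAt_apply]; exact hx)⟩
      exact Injective.of_iso (asIso ((EtCoh.stalk ξ).map (resInι (↑T : Set X) E))).symm (hinj x (hT x hx))
    exact ⟨Injective.factorThru ψ s ≫ resInι _ E, by
      rw [← Category.assoc, Injective.comp_factorThru, hψ]⟩

/-- A quotient of an injective abelian group is injective. -/
theorem injective_of_epi {A B : AddCommGrpCat.{u + 1}} (f : A ⟶ B) [Epi f] [Injective A] :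
    Injective B := by
  have hA : ∀ (n : ℤ), n ≠ 0 → ∀ a : A, ∃ a' : A, n • a' = a := fun n hn a => by
    let Z : AddCommGrpCat.{u + 1} := AddCommGrpCat.of (ULift.{u + 1} ℤ)
    let m : Z ⟶ Z := AddCommGrpCat.ofHom (zsmulAddGroupHom n)
    have : Mono m := (AddCommGrpCat.mono_iff_injective _).2 fun a b h => by
      have h' : n * a.down = n * b.down := congrArg ULift.down h
      exact ULift.ext _ _ (mul_left_cancel₀ hn h')
    let g : Z ⟶ A := AddCommGrpCat.ofHom
      ((zmultiplesHom A a).comp (AddEquiv.ulift : ULift.{u + 1} ℤ ≃+ ℤ).toAddMonoidHom)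
    refine ⟨(Injective.factorThru g m) (ULift.up 1), ?_⟩
    have h1 := ConcreteCategory.congr_hom (Injective.comp_factorThru g m) (ULift.up (1 : ℤ))
    have e : g (ULift.up (1 : ℤ)) = a := one_zsmul a
    rw [← map_zsmul]
    exact h1.trans e
  have hsm : ∀ (n : ℤ), n ≠ 0 → Function.Surjective (fun b : B => n • b) := fun n hn b => by
    obtain ⟨a, rfl⟩ := (AddCommGrpCat.epi_iff_surjective f).1 inferInstance b
    obtain ⟨a', rfl⟩ := hA n hn a
    exact ⟨f a', (map_zsmul f.hom n a').symm⟩
  let inst : DivisibleBy B ℤ := divisibleByOfSMulRightSurj B ℤ fun hn => hsm _ hn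
  exact AddCommGrpCat.injective_of_divisible B

end Groth.Agent.PunctLib
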