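import Groth.Agent.PunctLib.Inj

/-!
# Two-term injective resolutions of punctual sheaves
-/

set_option autoImplicit false

universe u

open CategoryTheory CategoryTheory.Limits AlgebraicGeometry Opposite TopologicalSpace

noncomputable section

namespace Groth.Agent.PunctLib

open EtaleSite EtaleSite.Flasque

variable {X : Scheme.{u}}

/-- The product of the injective skyscrapers of the stalks at closed points. -/
abbrev injSkies (F : EtCoh.Ab X) : EtCoh.Ab X :=
  ∏ᶜ fun x : {x : X // IsClosed ({x} : Set X)} =>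
    sky (geomPointAt X x.1) (Injective.under ((EtCoh.stalk (geomPointAt X x.1)).obj F))

/-- The punctual part of `injSkies`. -/
abbrev hull (F : EtCoh.Ab X) : EtCoh.Ab X := resIn (C0 X) (injSkies F)

/-- The map of the stalk of the hull at a closed point to the injective group. -/
def hullStalk (F : EtCoh.Ab X) (x : {x : X // IsClosed ({x} : Set X)}) :
    (EtCoh.stalk (geomPointAt X x.1)).obj (hull F) ⟶
      Injective.under ((EtCoh.stalk (geomPointAt X x.1)).obj F) :=
  (EtCoh.stalk (geomPointAt X x.1)).map (resInι (C0 X) (injSkies F) ≫ Pi.π _ x) ≫ skyCounit _ _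

variable (hsc : ∀ x : X, IsClosed ({x} : Set X) → IsSepClosed (X.residueField x))

include hsc in
theorem bijective_hullStalk [IsNoetherian X] (F : EtCoh.Ab X)
    (x : {x : X // IsClosed ({x} : Set X)}) : Function.Bijective (hullStalk F x) := by
  classical
  let ξ := geomPointAt X x.1
  have hξ : ξ default = x.1 := geomPointAt_apply X x.1 _
  constructor
  · rw [injective_iff_map_eq_zero]
    intro p hp
    obtain ⟨U, hU, t, s, rfl⟩ := exists_germ_compact _ p
    obtain ⟨V, k, y, hy, -, hV⟩ := exists_shrink_supp (zeroOff_resIn (C0 X) (injSkies F)) t s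
    rw [← hy, ← germ_res] at hp ⊢
    suffices h : (hull F).obj.map k.op s = 0 by
      exact (congrArg (germ ξ (hull F) V y) h).trans (map_zero _)
    obtain ⟨ψ, hψ⟩ := (freeSec_bijective V (hull F)).2 ((hull F).obj.map k.op s)
    suffices h : ψ = 0 by rw [← hψ, h, freeSec_zero]
    refine (cancel_mono (resInι (C0 X) (injSkies F))).1 ?_
    refine (Pi.hom_ext _ _ fun z => ?_).trans zero_comp.symm
    rw [zero_comp, Category.assoc]
    refine (freeSec_bijective V _).1 ?_
    rw [freeSec_comp, hψ, freeSec_zero]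
    refine sky_ext _ _ _ fun w => ?_
    rw [comp_apply, comp_zero', ← germ_naturality]
    by_cases h0 : germ (geomPointAt X z.1) (hull F) V w ((hull F).obj.map k.op s) = 0
    · exact (congrArg (fun q => skyCounit _ _ ((EtCoh.stalk (geomPointAt X z.1)).map
        (resInι (C0 X) (injSkies F) ≫ Pi.π _ z) q)) h0).trans (by rw [map_zero, map_zero])
    · have hpt := hV _ _ w h0
      have hzx : z = x := Subtype.ext (by
        have h1 := congrArg (fun q => V.hom q) hpt
        simp only [hom_pt] at h1
        exact (geomPointAt_apply X z.1 _).symm.trans (h1.trans hξ))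
      subst hzx
      have : IsSepClosed (X.residueField (ξ default)) := by rw [hξ]; exact hsc _ z.2
      obtain rfl := fiber_ext w y hpt
      exact hp
  · intro d
    let M := Injective.under ((EtCoh.stalk ξ).obj F)
    obtain ⟨q, hq⟩ := (bijective_counit_geomPointAt hsc M x.2).2 d
    let e : sky ξ M ⟶ injSkies F :=
      Pi.lift fun z => if h : x = z then eqToHom (by subst h; rfl) else 0
    have hz : ∀ y, y ∉ C0 X → (EtCoh.stalk (geomPointAt X y)).map e = 0 := fun y hy =>
      (zeroOff_sky ξ M (by rw [hξ]; exact x.2) (A := C0 X) (by rw [hξ]; exact x.2) y hy).eq_of_src _ _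
    obtain ⟨e', he'⟩ := exists_lift_resIn e hz
    refine ⟨(EtCoh.stalk ξ).map e' q, ?_⟩
    rw [hullStalk, ConcreteCategory.comp_apply]
    have h2 : e' ≫ resInι (C0 X) (injSkies F) ≫ Pi.π _ x = 𝟙 _ := by
      rw [← Category.assoc, he', Pi.lift_π]
      simp
    have h3 : (EtCoh.stalk ξ).map (e' ≫ resInι (C0 X) (injSkies F) ≫ Pi.π _ x) q = q := by
      rw [h2, CategoryTheory.Functor.map_id]; rfl
    exact (congrArg (skyCounit ξ M) ((ConcreteCategory.congr_hom
      ((EtCoh.stalk ξ).map_comp e' (resInι (C0 X) (injSkies F) ≫ Pi.π _ x)) q).symm.trans h3)).trans hq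

include hsc in
theorem injective_hull [IsNoetherian X] (F : EtCoh.Ab X) : Injective (hull F) :=
  injective_of_zeroOff hsc _ (zeroOff_resIn _ _) fun x hx => by
    have : IsIso (hullStalk F ⟨x, hx⟩) :=
      (ConcreteCategory.isIso_iff_bijective _).2 (bijective_hullStalk hsc F ⟨x, hx⟩)
    exact Injective.of_iso (asIso (hullStalk F ⟨x, hx⟩)).symm inferInstance

include hsc in
/-- A punctual sheaf has a two-term injective resolution. -/
theorem exists_resolution [IsNoetherian X] (F : EtCoh.Ab X) (hF : ZeroOff (C0 X) F) :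
    ∃ (I0 I1 : EtCoh.Ab X) (a : F ⟶ I0) (b : I0 ⟶ I1) (w : a ≫ b = 0),
      Injective I0 ∧ Injective I1 ∧ (ShortComplex.mk a b w).ShortExact := by
  let j : F ⟶ injSkies F := Pi.lift fun x => toSky (geomPointAt X x.1) (Injective.ι _)
  obtain ⟨j', hj'⟩ := exists_lift_resIn (A := C0 X) j fun y hy => (hF y hy).eq_of_src _ _
  have : Mono j' := mono_of_stalk j' fun Ω _ _ ξ => injective_stalk_of_geomPointAt j' ξ (by
    by_cases hc : IsClosed ({ξ default} : Set X)
    · let x : {x : X // IsClosed ({x} : Set X)} := ⟨ξ default, hc⟩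
      have h : (EtCoh.stalk (geomPointAt X x.1)).map j' ≫ hullStalk F x = Injective.ι _ := by
        rw [hullStalk, ← Category.assoc, ← Functor.map_comp, ← Category.assoc, hj', Pi.lift_π,
          map_toSky_counit]
      intro p q hpq
      refine (AddCommGrpCat.mono_iff_injective _).1
        (inferInstance : Mono (Injective.ι ((EtCoh.stalk (geomPointAt X x.1)).obj F))) ?_
      exact (ConcreteCategory.congr_hom h p).symm.trans
        ((congrArg (hullStalk F x) hpq).trans (ConcreteCategory.congr_hom h q))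
    · exact fun p q _ => (eq_zero_of_isZero (hF _ hc) p).trans (eq_zero_of_isZero (hF _ hc) q).symm)
  have h0 : Injective (hull F) := injective_hull hsc F
  have hC : ZeroOff (C0 X) (cokernel j') := zeroOff_of_epi (cokernel.π j') (zeroOff_resIn _ _)
  have h1 : Injective (cokernel j') := by
    refine injective_of_zeroOff hsc _ hC fun x hx => ?_
    have : IsIso (hullStalk F ⟨x, hx⟩) :=
      (ConcreteCategory.isIso_iff_bijective _).2 (bijective_hullStalk hsc F ⟨x, hx⟩)
    have : Injective ((EtCoh.stalk (geomPointAt X x)).obj (hull F)) :=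
      Injective.of_iso (asIso (hullStalk F ⟨x, hx⟩)).symm inferInstance
    have : Epi ((EtCoh.stalk (geomPointAt X x)).map (cokernel.π j')) :=
      (AddCommGrpCat.epi_iff_surjective _).2 ((epi_iff_stalk (cokernel.π j')).1 inferInstance _ _)
    exact injective_of_epi ((EtCoh.stalk (geomPointAt X x)).map (cokernel.π j'))
  exact ⟨hull F, cokernel j', j', cokernel.π j', cokernel.condition j', h0, h1,
    ShortComplex.ShortExact.mk' (ShortComplex.exact_cokernel j') ‹Mono j'› inferInstance⟩

include hsc in
/-- A nonzero punctual sheaf has a nonzero map from `ℤ`. -/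
theorem isZero_of_hom_const [IsNoetherian X] (F : EtCoh.Ab X) (hF : ZeroOff (C0 X) F)
    (h : ∀ s : EtCoh.const X ℤ ⟶ F, s = 0) : IsZero F := by
  refine (isZero_iff_stalk F).2 fun Ω _ _ ξ => ?_
  by_cases hc : IsClosed ({ξ default} : Set X)
  swap
  · exact hF.isZero_stalk ξ hc
  refine (EtConsAb.isZero_stalk_iff ξ rfl).2 ?_
  let x := ξ default
  let ζ := geomPointAt X x
  have hζ : ζ default = x := geomPointAt_apply X x _
  let M := (EtCoh.stalk ζ).obj F
  let R := resIn ({x} : Set X) F
  let q : R ⟶ sky ζ M := toSky ζ ((EtCoh.stalk ζ).map (resInι _ F))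
  have hRb : Function.Bijective ((EtCoh.stalk ζ).map (resInι ({x} : Set X) F)) :=
    ⟨injective_stalk_ι _ _ ζ, surjective_stalk_resInι hF ζ hζ⟩
  have hqb : Function.Bijective ((EtCoh.stalk ζ).map q) :=
    (Function.Bijective.of_comp_iff' (bijective_counit_geomPointAt hsc M hc) _).1 (by
      have e : (skyCounit ζ M : _ → _) ∘ ((EtCoh.stalk ζ).map q) =
          ((EtCoh.stalk ζ).map (resInι ({x} : Set X) F)) := funext fun p =>
        ConcreteCategory.congr_hom (map_toSky_counit ζ
          ((EtCoh.stalk ζ).map (resInι ({x} : Set X) F))) p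
      exact e.symm ▸ hRb)
  have : IsIso q := by
    refine isIso_of_stalk q fun Ω' _ _ θ => ?_
    by_cases hθ : θ default = x
    · refine (ConcreteCategory.isIso_iff_bijective _).2
        ⟨injective_stalk_of_geomPointAt q θ ?_, surjective_stalk_of_geomPointAt q θ ?_⟩
      · rw [hθ]; exact hqb.1
      · rw [hθ]; exact hqb.2
    · exact ⟨0, ((zeroOff_resIn _ F).isZero_stalk θ hθ).eq_of_src _ _,
        (isZero_stalk_sky ζ M (by rw [hζ]; exact hc) θ (by rw [hζ]; exact hθ)).eq_of_src _ _⟩
  suffices hs : ∀ m : M, m = 0 by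
    have : Subsingleton M := ⟨fun a b => (hs a).trans (hs b).symm⟩
    exact AddCommGrpCat.isZero_of_subsingleton _
  intro m
  let T : X.Etale := EtCoh.top X
  let t : (Scheme.pointSmallEtale ζ).fiber.obj T :=
    (Over.homMk ζ (Category.comp_id ζ) : Over.mk ζ ⟶ (Scheme.Etale.forget X).obj (EtCoh.top X))
  let s : (sky ζ M).obj.obj (op T) := (Pi.lift fun _ : (Scheme.pointSmallEtale ζ).fiber.obj T => 𝟙 M) m
  obtain ⟨σ, hσ⟩ := (evTop_bijective (sky ζ M)).2 s
  have h0 : σ ≫ inv q = 0 := by
    refine (cancel_mono (resInι ({x} : Set X) F)).1 ?_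
    rw [h ((σ ≫ inv q) ≫ resInι _ F), zero_comp]
  have hσ0 : σ = 0 := by
    have := congrArg (· ≫ q) h0
    simpa using this
  have hm : comp ζ t s = m := ConcreteCategory.congr_hom
    (Pi.lift_π (f := fun _ : (Scheme.pointSmallEtale ζ).fiber.obj T => M) (fun _ => 𝟙 M) t) m
  rw [← hm, ← hσ, hσ0]
  have hz : evTop (sky ζ M) 0 = 0 := by
    have := evTop_comp (G' := sky ζ M) (𝟙 (EtCoh.const X ℤ)) (0 : EtCoh.const X ℤ ⟶ sky ζ M)
    rw [Category.id_comp] at this
    exact this
  exact (congrArg (comp ζ t) hz).trans (comp_zero' ζ t)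

end Groth.Agent.PunctLib
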