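import Mathlib.Algebra.Homology.DerivedCategory.Basic
import Mathlib.Algebra.Homology.DerivedCategory.HomologySequence
import Mathlib.Algebra.Homology.Refinements
import Mathlib.Algebra.Homology.SingleHomology
import Mathlib.CategoryTheory.Preadditive.Injective.Basic

/-!
# Complexes whose cohomology has injective dimension one split

If every cohomology object of a cochain complex has a two-term injective resolution, then every
morphism into a cohomology object lifts to the derived category.
-/

set_option autoImplicit false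

open CategoryTheory CategoryTheory.Limits

noncomputable section

namespace Groth.Agent.PunctLib.Split

universe w v u

variable {C : Type u} [Category.{v} C] [Abelian C]

/-- The short complex of a cochain complex at a degree. -/
abbrev sc (K : CochainComplex C ℤ) (m : ℤ) : ShortComplex C := K.sc' (m - 1) m (m + 1)

/-- Two-term injective resolutions of the cohomology of a complex. -/
structure Data (K : CochainComplex C ℤ) where
  I0 : ℤ → C
  I1 : ℤ → C
  a : ∀ m, (sc K m).homology ⟶ I0 m
  b : ∀ m, I0 m ⟶ I1 m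
  w : ∀ m, a m ≫ b m = 0
  inj0 : ∀ m, Injective (I0 m)
  inj1 : ∀ m, Injective (I1 m)
  hS : ∀ m, (ShortComplex.mk (a m) (b m) (w m)).ShortExact

variable {K : CochainComplex C ℤ} (D : Data K)

attribute [local instance] Data.inj0 Data.inj1

instance mono_a (m : ℤ) : Mono (D.a m) := (D.hS m).mono_f

instance epi_b (m : ℤ) : Epi (D.b m) := (D.hS m).epi_g

/-- The first component. -/
def f0 (m : ℤ) : K.X m ⟶ D.I0 m :=
  (sc K m).pOpcycles ≫ Injective.factorThru (D.a m) (sc K m).homologyι

theorem d_f0 (i m : ℤ) (h : i + 1 = m) : K.d i m ≫ f0 D m = 0 := by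
  obtain rfl : i = m - 1 := by omega
  exact ((sc K m).f_pOpcycles_assoc _).trans zero_comp

theorem iCycles_f0 (m : ℤ) : (sc K m).iCycles ≫ f0 D m = (sc K m).homologyπ ≫ D.a m := by
  refine (Category.assoc _ _ _).symm.trans ((congrArg (· ≫ Injective.factorThru (D.a m) (sc K m).homologyι)
    (sc K m).homology_π_ι.symm).trans ?_)
  rw [Category.assoc, Injective.comp_factorThru]

theorem exists_G (n m : ℤ) (h : n + 1 = m) :
    ∃ g : K.X m ⟶ D.I1 n, K.d n m ≫ g = f0 D n ≫ D.b n := by
  subst h
  let S := ShortComplex.mk (sc K n).iCycles (sc K n).g (sc K n).iCycles_g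
  have hS : S.Exact := ShortComplex.exact_of_f_is_kernel _ (sc K n).cyclesIsKernel
  have hf : S.f ≫ (f0 D n ≫ D.b n) = 0 := by
    show (sc K n).iCycles ≫ f0 D n ≫ D.b n = 0
    rw [← Category.assoc, iCycles_f0, Category.assoc, D.w, comp_zero]
  exact ⟨hS.descToInjective _ hf, hS.comp_descToInjective _ hf⟩

/-- The second component. -/
def G (n m : ℤ) (h : n + 1 = m) : K.X m ⟶ D.I1 n := (exists_G D n m h).choose

theorem d_G (i n m : ℤ) (hi : i + 1 = m) (h : n + 1 = m) :
    K.d i m ≫ G D n m h = f0 D i ≫ D.b i ≫ eqToHom (congrArg D.I1 (show i = n by omega)) := by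
  obtain rfl : i = n := by omega
  simp [G, (exists_G D i m h).choose_spec]

/-- The terms of the split complex. -/
abbrev T (m : ℤ) : C := D.I0 m ⊞ D.I1 (m - 1)

/-- The resolution differential with reindexed target. -/
def q (i n : ℤ) (h : i = n) : D.I0 i ⟶ D.I1 n := D.b i ≫ eqToHom (congrArg D.I1 h)

theorem a_q (i n : ℤ) (h : i = n) : D.a i ≫ q D i n h = 0 := by
  subst h
  simp [q, D.w]

instance epi_q (i n : ℤ) (h : i = n) : Epi (q D i n h) := by
  subst h
  simp only [q, eqToHom_refl, Category.comp_id]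
  infer_instance

theorem d_G' (i n m : ℤ) (hi : i + 1 = m) (h : n + 1 = m) :
    K.d i m ≫ G D n m h = f0 D i ≫ q D i n (by omega) :=
  d_G D i n m hi h

/-- The differentials of the split complex. -/
def dT (i j : ℤ) : T D i ⟶ T D j :=
  if h : i + 1 = j then biprod.fst ≫ q D i (j - 1) (by omega) ≫ biprod.inr else 0

theorem dT_eq (i j : ℤ) (h : i + 1 = j) :
    dT D i j = biprod.fst ≫ q D i (j - 1) (by omega) ≫ biprod.inr := dif_pos h

theorem dT_fst (i j : ℤ) : dT D i j ≫ biprod.fst = 0 := by
  unfold dT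
  split <;> simp

/-- The split complex. -/
def J : CochainComplex C ℤ where
  X := T D
  d := dT D
  shape i j h := dif_neg h
  d_comp_d' i j k hij hjk := by
    show dT D i j ≫ dT D j k = 0
    rw [dT_eq D i j hij, dT_eq D j k hjk]
    simp

/-- The comparison map. -/
def toJ : K ⟶ J D where
  f m := biprod.lift (f0 D m) (G D (m - 1) m (by omega))
  comm' i j hij := by
    have h : i + 1 = j := hij
    show biprod.lift _ _ ≫ dT D i j = K.d i j ≫ biprod.lift _ _
    rw [dT_eq D i j h]
    apply biprod.hom_ext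
    · simp [d_f0 D i j h]
    · simp [d_G' D i (j - 1) j h]

/-- The cycles of the split complex. -/
abbrev Z (m : ℤ) : C := (sc K m).homology ⊞ D.I1 (m - 1)

/-- The inclusion of the cycles. -/
abbrev zι (m : ℤ) : Z D m ⟶ T D m := biprod.map (D.a m) (𝟙 _)

instance mono_zι (m : ℤ) : Mono (zι D m) := ⟨fun u u' h => by
  apply biprod.hom_ext
  · rw [← cancel_mono (D.a m)]
    simpa using h =≫ biprod.fst
  · simpa using h =≫ biprod.snd⟩

theorem zι_d (m j : ℤ) (h : m + 1 = j) : zι D m ≫ dT D m j = 0 := by
  rw [dT_eq D m j h]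
  simp [reassoc_of% (a_q D m (j - 1) (by omega))]

/-- The cycles form a kernel. -/
def zIsLimit (m : ℤ) : IsLimit (KernelFork.ofι (zι D m) (zι_d D m (m + 1) rfl)) :=
  KernelFork.IsLimit.ofι' _ _ fun {A} k hk => by
    have hk'' : (k ≫ dT D m (m + 1)) ≫ biprod.snd = 0 := by rw [hk, zero_comp]
    rw [dT_eq D m (m + 1) rfl] at hk''
    simp only [Category.assoc, biprod.inr_snd, Category.comp_id] at hk''
    have h0 : (k ≫ biprod.fst) ≫ D.b m = 0 := by
      simp only [q] at hk''
      rw [← cancel_mono (eqToHom (congrArg D.I1 (show m = m + 1 - 1 by omega))), zero_comp,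
        Category.assoc, Category.assoc]
      exact hk''
    refine ⟨biprod.lift ((D.hS m).fIsKernel.lift (KernelFork.ofι _ h0)) (k ≫ biprod.snd), ?_⟩
    have e : (D.hS m).fIsKernel.lift (KernelFork.ofι _ h0) ≫ D.a m = k ≫ biprod.fst :=
      (D.hS m).fIsKernel.fac (KernelFork.ofι _ h0) WalkingParallelPair.zero
    apply biprod.hom_ext
    · simp [e]
    · simp

/-- The map to the cycles. -/
def toZ (m : ℤ) : T D (m - 1) ⟶ Z D m :=
  biprod.fst ≫ q D (m - 1) (m - 1) rfl ≫ biprod.inr

theorem toZ_zι (m : ℤ) : toZ D m ≫ zι D m = dT D (m - 1) m := by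
  rw [dT_eq D (m - 1) m (by omega), toZ]
  simp

/-- Left homology data for the split complex. -/
def leftData (m : ℤ) : ((J D).sc' (m - 1) m (m + 1)).LeftHomologyData where
  K := Z D m
  H := (sc K m).homology
  i := (zι D m : _ ⟶ T D m)
  π := biprod.fst
  wi := zι_d D m (m + 1) rfl
  hi := zIsLimit D m
  wπ := by
    have e : (zIsLimit D m).lift (KernelFork.ofι (dT D (m - 1) m) ((J D).d_comp_d (m - 1) m (m + 1))) =
        toZ D m := by
      rw [← cancel_mono (zι D m), toZ_zι]
      exact (zIsLimit D m).fac _ WalkingParallelPair.zero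
    refine (congrArg (· ≫ biprod.fst) e).trans ?_
    simp [toZ]
    try rfl
  hπ := by
    refine CokernelCofork.IsColimit.ofπ' _ _ fun {A} k hk => ⟨biprod.inl ≫ k, ?_⟩
    have e : (zIsLimit D m).lift (KernelFork.ofι (dT D (m - 1) m) ((J D).d_comp_d (m - 1) m (m + 1))) =
        toZ D m := by
      rw [← cancel_mono (zι D m), toZ_zι]
      exact (zIsLimit D m).fac _ WalkingParallelPair.zero
    have hk' : toZ D m ≫ k = 0 := (congrArg (· ≫ k) e.symm).trans hk
    have he : Epi ((biprod.fst : T D (m - 1) ⟶ _) ≫ q D (m - 1) (m - 1) rfl) := epi_comp _ _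
    have hr : biprod.inr ≫ k = 0 := by
      rw [← cancel_epi ((biprod.fst : T D (m - 1) ⟶ _) ≫ q D (m - 1) (m - 1) rfl), comp_zero]
      simpa [toZ] using hk'
    apply biprod.hom_ext'
    · simp
    · simp [hr]

/-- The comparison map on cycles and homology. -/
def mapData (m : ℤ) :
    ShortComplex.LeftHomologyMapData
      ((HomologicalComplex.shortComplexFunctor' C (ComplexShape.up ℤ) (m - 1) m (m + 1)).map (toJ D))
      (sc K m).leftHomologyData (leftData D m) where
  φK := biprod.lift ((sc K m).homologyπ) ((sc K m).iCycles ≫ G D (m - 1) m (by omega))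
  φH := (sc K m).leftHomologyIso.hom
  commi := by
    show biprod.lift _ _ ≫ zι D m = (sc K m).iCycles ≫ biprod.lift _ _
    apply biprod.hom_ext
    · simp only [Category.assoc, biprod.map_fst, biprod.lift_fst_assoc, biprod.lift_fst]
      exact (iCycles_f0 D m).symm
    · simp only [Category.assoc, biprod.map_snd, biprod.lift_snd_assoc, biprod.lift_snd,
        Category.comp_id]
      try rfl
  commf' := by
    refine (cancel_mono (leftData D m).i).1 ?_
    have e : biprod.lift ((sc K m).homologyπ) ((sc K m).iCycles ≫ G D (m - 1) m (by omega)) ≫ zι D m =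
        (sc K m).iCycles ≫ (toJ D).f m := by
      apply biprod.hom_ext
      · show _ = ((sc K m).iCycles ≫ biprod.lift _ _) ≫ biprod.fst
        simp only [Category.assoc, biprod.map_fst, biprod.lift_fst_assoc, biprod.lift_fst]
        exact (iCycles_f0 D m).symm
      · show _ = ((sc K m).iCycles ≫ biprod.lift _ _) ≫ biprod.snd
        simp only [Category.assoc, biprod.map_snd, biprod.lift_snd_assoc, biprod.lift_snd,
          Category.comp_id]
        try rfl
    refine (Category.assoc _ _ _).trans ((congrArg ((sc K m).leftHomologyData.f' ≫ ·) e).trans ?_)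
    refine ((Category.assoc _ _ _).symm.trans
      (congrArg (· ≫ (toJ D).f m) (sc K m).leftHomologyData.f'_i)).trans ?_
    refine ((toJ D).comm (m - 1) m).symm.trans ?_
    exact (congrArg ((toJ D).f (m - 1) ≫ ·) (leftData D m).f'_i.symm).trans (Category.assoc _ _ _).symm
  commπ := by
    show (sc K m).leftHomologyπ ≫ (sc K m).leftHomologyIso.hom = biprod.lift _ _ ≫ biprod.fst
    rw [biprod.lift_fst]
    rfl

instance quasiIso_toJ : QuasiIso (toJ D) := ⟨fun m => by
  rw [quasiIsoAt_iff' _ (m - 1) m (m + 1) (by simp) (by simp), (mapData D m).quasiIso_iff]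
  show IsIso (sc K m).leftHomologyIso.hom
  infer_instance⟩

variable [HasDerivedCategory.{w} C]

open DerivedCategory

/-- Morphisms into a cohomology object vanish when the derived Hom groups vanish. -/
theorem eq_zero_of_subsingleton (D : Data K) {Z' : C} (m : ℤ) (s : Z' ⟶ (sc K (0 + m)).homology)
    (h : Subsingleton ((singleFunctor C 0).obj Z' ⟶ (shiftFunctor (DerivedCategory C) m).obj (Q.obj K))) :
    s = 0 := by
  let L := (shiftFunctor (CochainComplex C ℤ) m).obj (J D)
  let z : Z' ⟶ L.X 0 := biprod.lift (s ≫ D.a (0 + m)) 0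
  have hz : z ≫ L.d 0 1 = 0 := by
    show biprod.lift (s ≫ D.a (0 + m)) 0 ≫ (m.negOnePow • dT D (0 + m) (1 + m)) = 0
    rw [Linear.comp_units_smul, dT_eq D (0 + m) (1 + m) (by omega), biprod.lift_fst_assoc,
      Category.assoc, reassoc_of% (a_q D (0 + m) (1 + m - 1) (by omega))]
    simp
  let u : (HomologicalComplex.single C (ComplexShape.up ℤ) 0).obj Z' ⟶ L :=
    HomologicalComplex.mkHomFromSingle z (fun k hk => by
      obtain rfl : (0 : ℤ) + 1 = k := hk
      exact hz)
  let e : (shiftFunctor (DerivedCategory C) m).obj (Q.obj K) ≅ Q.obj L :=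
    (shiftFunctor (DerivedCategory C) m).mapIso (asIso (Q.map (toJ D))) ≪≫
      ((Q.commShiftIso m).app (J D)).symm
  have hu : Q.map u = Q.map 0 := by
    have h1 : (Q.map u ≫ e.inv : _) = Q.map 0 ≫ e.inv := @Subsingleton.elim _ h _ _
    exact (cancel_mono e.inv).1 h1
  have hH : HomologicalComplex.homologyMap u 0 = 0 := by
    have h1 := congrArg (fun k => (DerivedCategory.homologyFunctor C 0).map k) hu
    have h2 := NatIso.naturality_1 (DerivedCategory.homologyFunctorFactors C 0) u
    have h3 := NatIso.naturality_1 (DerivedCategory.homologyFunctorFactors C 0)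
      (0 : (HomologicalComplex.single C (ComplexShape.up ℤ) 0).obj Z' ⟶ L)
    refine h2.symm.trans (Eq.trans ?_ (h3.trans (Functor.map_zero _ _ _)))
    exact congrArg (fun k => _ ≫ k ≫ _) h1
  have hc : L.liftCycles z 1 (by simp) hz ≫ L.homologyπ 0 = 0 := by
    have h1 : L.liftCycles z 1 (by simp) hz =
        (HomologicalComplex.singleObjCyclesSelfIso (ComplexShape.up ℤ) 0 Z').inv ≫
          HomologicalComplex.cyclesMap u 0 := by
      rw [← cancel_mono (L.iCycles 0)]
      simp [u]
    rw [h1, Category.assoc, ← HomologicalComplex.homologyπ_naturality, hH, comp_zero, comp_zero]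
  obtain ⟨A', π, hπ, x, hx⟩ :=
    (L.liftCycles_comp_homologyπ_eq_zero_iff_up_to_refinements (-1) 0 1 (by simp) (by simp) z hz).1 hc
  have h4 : π ≫ s ≫ D.a (0 + m) = 0 := by
    have h5 := hx =≫ (biprod.fst : T D (0 + m) ⟶ _)
    refine (congrArg (π ≫ ·) (biprod.lift_fst (s ≫ D.a (0 + m)) (0 : Z' ⟶ D.I1 (0 + m - 1))).symm).trans ?_
    refine ((Category.assoc _ _ _).symm.trans h5).trans ?_
    refine (Category.assoc _ _ _).trans ?_
    have h6 : (m.negOnePow • dT D (-1 + m) (0 + m)) ≫ (biprod.fst : T D (0 + m) ⟶ _) = 0 := by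
      rw [Linear.units_smul_comp, dT_fst, smul_zero]
    exact (congrArg (x ≫ ·) h6).trans comp_zero
  rw [← cancel_mono (D.a (0 + m)), zero_comp, ← cancel_epi π, h4, comp_zero]

end Groth.Agent.PunctLib.Split
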